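import Mathlib
import Cfsg.Agent.Lib.Forms.Bases
import Cfsg.Agent.Lib.Forms.HermStd

/-!
# The subfield of index two and a Chevalley–Warning count over it
-/

set_option autoImplicit false
set_option linter.unusedSectionVars false

namespace Cfsg.Agent.Forms.Max.UnitExtField

variable {F : Type*} [Field F] [Fintype F] {q : ℕ} (hF : Fintype.card F = q ^ 2)

/-- the fixed field of `x ↦ x ^ q` -/
def F0 : Subfield F := RingHom.eqLocusField (HermStd.qHom hF) (RingHom.id F)

theorem mem_F0 {x : F} : x ∈ F0 hF ↔ x ^ q = x := Iff.rfl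

include hF in
theorem exists_moved_scalar : ∃ w : F, w ^ q ≠ w := by
  by_contra hc
  push Not at hc
  exact HermStd.qHom_ne_id hF (RingHom.ext hc)

theorem natCard_F0 : Nat.card (F0 hF) = q := by
  obtain ⟨w, hw⟩ := exists_moved_scalar hF
  have hsub : w - w ^ q ≠ 0 := sub_ne_zero.2 (Ne.symm hw)
  have hinj : Function.Injective fun p : F0 hF × F0 hF => (p.1 : F) + w * p.2 := by
    rintro ⟨⟨a, ha⟩, ⟨b, hb⟩⟩ ⟨⟨a', ha'⟩, ⟨b', hb'⟩⟩ e
    simp only [mem_F0] at ha hb ha' hb'
    simp only at e
    have e' := congrArg (HermStd.qHom hF) e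
    simp only [map_add, map_mul, HermStd.qHom_apply, ha, hb, ha', hb'] at e'
    have hb2 : b = b' := mul_left_cancel₀ hsub (by linear_combination e - e')
    subst hb2
    have ha2 : a = a' := by linear_combination e
    subst ha2
    rfl
  have hsurj : Function.Surjective fun p : F0 hF × F0 hF => (p.1 : F) + w * p.2 := by
    intro z
    have hq : ∀ x : F, (x ^ q) ^ q = x := HermStd.pow_q_q hF
    have hbfix : ((z - z ^ q) / (w - w ^ q)) ^ q = (z - z ^ q) / (w - w ^ q) := by
      rw [← HermStd.qHom_apply hF, map_div₀, map_sub, map_sub, HermStd.qHom_apply, HermStd.qHom_apply,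
        HermStd.qHom_apply, HermStd.qHom_apply, hq, hq]
      rw [← neg_sub z, ← neg_sub w, neg_div_neg_eq]
    refine ⟨(⟨z - w * ((z - z ^ q) / (w - w ^ q)), ?_⟩, ⟨_, hbfix⟩), by simp⟩
    rw [mem_F0, ← HermStd.qHom_apply hF, map_sub, map_mul, HermStd.qHom_apply, HermStd.qHom_apply,
      HermStd.qHom_apply, hbfix]
    field_simp
    ring
  have h := Nat.card_eq_of_bijective _ ⟨hinj, hsurj⟩
  rw [Nat.card_prod, Nat.card_eq_fintype_card (α := F), hF, ← sq] at h
  exact Nat.pow_left_injective two_ne_zero h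

/-- sums of low degree polynomials over the subfield vanish -/
theorem sum_eval_eq_zero [Fintype (F0 hF)] {ι : Type*} [Fintype ι] [DecidableEq ι] (P : MvPolynomial ι F)
    (hP : P.totalDegree < (q - 1) * Fintype.card ι) :
    ∑ x : ι → F0 hF, MvPolynomial.eval (fun i => (x i : F)) P = 0 := by
  classical
  simp only [MvPolynomial.eval_eq']
  rw [Finset.sum_comm]
  refine Finset.sum_eq_zero fun d hd => ?_
  rw [← Finset.mul_sum]
  obtain ⟨i, hi⟩ : ∃ i, d i < q - 1 := by
    by_contra hc
    push Not at hc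
    have h1 := MvPolynomial.le_totalDegree hd
    have h2 : ∑ i, d i = d.sum fun _ e => e := (Finsupp.sum_fintype d (fun _ e => e) (fun _ => rfl)).symm
    have h3 : (q - 1) * Fintype.card ι ≤ ∑ i, d i := by
      rw [mul_comm, ← smul_eq_mul, ← Finset.card_univ, ← Finset.sum_const]
      exact Finset.sum_le_sum fun i _ => hc i
    omega
  have e : ∑ x : ι → F0 hF, ∏ j, (x j : F) ^ d j = ∏ j, ∑ t : F0 hF, (t : F) ^ d j :=
    (Fintype.prod_sum fun j (t : F0 hF) => (t : F) ^ d j).symm
  rw [e, Finset.prod_eq_zero (Finset.mem_univ i), mul_zero]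
  have h0 := FiniteField.sum_pow_lt_card_sub_one (K := F0 hF) (d i)
    (by rwa [← Nat.card_eq_fintype_card, natCard_F0])
  exact_mod_cast congrArg (Subtype.val : F0 hF → F) h0

include hF in
/-- more variables than the size: some non-zero combination of hermitian matrices is singular -/
theorem exists_singular {s m : ℕ} (hs : 0 < s) (hsm : s < m) (N : Fin m → Matrix (Fin s) (Fin s) F)
    (hN : ∀ k i j, (N k i j) ^ q = N k j i) :
    ∃ x : Fin m → F, (∀ k, x k ^ q = x k) ∧ x ≠ 0 ∧ (∑ k, x k • N k).det = 0 := by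
  classical
  haveI : Fintype (F0 hF) := Fintype.ofFinite _
  by_contra hc
  push Not at hc
  let P : MvPolynomial (Fin m) F :=
    (Matrix.of fun i j => ∑ k, MvPolynomial.C (N k i j) * MvPolynomial.X k).det
  have hP : P.totalDegree ≤ s := by
    simp only [P, Matrix.det_apply]
    refine MvPolynomial.totalDegree_finsetSum_le fun σ _ => ?_
    refine (MvPolynomial.totalDegree_smul_le _ _).trans ((MvPolynomial.totalDegree_finset_prod _ _).trans ?_)
    refine (Finset.sum_le_card_nsmul _ _ 1 fun i _ => ?_).trans_eq (by simp)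
    simp only [Matrix.of_apply]
    refine MvPolynomial.totalDegree_finsetSum_le fun k _ => ?_
    refine (MvPolynomial.totalDegree_mul _ _).trans ?_
    rw [MvPolynomial.totalDegree_C, MvPolynomial.totalDegree_X, zero_add]
  have hev : ∀ x : Fin m → F0 hF, MvPolynomial.eval (fun i => (x i : F)) P = (∑ k, (x k : F) • N k).det := by
    intro x
    rw [show P = _ from rfl, RingHom.map_det]
    congr 1
    ext i j
    simp [Matrix.sum_apply, mul_comm]
  have hq := HermStd.one_lt_q hF
  have hfix : ∀ x : Fin m → F0 hF, (∑ k, (x k : F) • N k).det ^ q = (∑ k, (x k : F) • N k).det := fun x => by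
    rw [← HermStd.qHom_apply hF, RingHom.map_det, ← Matrix.det_transpose]
    congr 1
    ext i j
    simp only [Matrix.transpose_apply, RingHom.mapMatrix_apply, Matrix.map_apply, Matrix.sum_apply,
      Matrix.smul_apply, map_sum, smul_eq_mul, map_mul, HermStd.qHom_apply, hN, (mem_F0 hF).1 (x _).2]
  have h1 : ∀ x : Fin m → F0 hF, x ≠ 0 → MvPolynomial.eval (fun i => (x i : F)) (P ^ (q - 1)) = 1 := by
    intro x hx
    rw [map_pow, hev]
    have hne : (∑ k, (x k : F) • N k).det ≠ 0 := hc _ (fun k => (mem_F0 hF).1 (x k).2) fun h =>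
      hx (funext fun k => Subtype.ext (congrFun h k))
    refine mul_left_cancel₀ hne ?_
    rw [← pow_succ', Nat.sub_add_cancel hq.le, hfix, mul_one]
  have hdeg : (P ^ (q - 1)).totalDegree < (q - 1) * Fintype.card (Fin m) := by
    refine lt_of_le_of_lt ((MvPolynomial.totalDegree_pow _ _).trans (Nat.mul_le_mul_left _ hP)) ?_
    rw [Fintype.card_fin]
    exact Nat.mul_lt_mul_of_pos_left hsm (by omega)
  have h := sum_eval_eq_zero hF _ hdeg
  rw [← Finset.add_sum_erase _ _ (Finset.mem_univ (0 : Fin m → F0 hF)), map_pow, hev,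
    show (∑ k, ((0 : Fin m → F0 hF) k : F) • N k).det = 0 by
      haveI : Nonempty (Fin s) := ⟨⟨0, hs⟩⟩
      simp,
    zero_pow (by omega), zero_add, Finset.sum_congr rfl fun x hx => h1 x (Finset.ne_of_mem_erase hx),
    Finset.sum_const, Finset.card_erase_of_mem (Finset.mem_univ _), Finset.card_univ, Fintype.card_fun,
    Fintype.card_fin, ← Nat.card_eq_fintype_card, natCard_F0, nsmul_eq_mul, mul_one,
    Nat.cast_sub (Nat.one_le_pow _ _ (by omega)), Nat.cast_pow] at h
  have hq0 : (q : F) = 0 := by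
    have : ((q ^ 2 : ℕ) : F) = 0 := by rw [← hF, Nat.cast_card_eq_zero]
    rw [Nat.cast_pow] at this
    exact eq_zero_of_pow_eq_zero this
  rw [hq0, zero_pow (by omega), Nat.cast_one, zero_sub, neg_eq_zero] at h
  exact one_ne_zero h

include hF in
/-- fewer equations than half the variables: a common zero -/
theorem exists_common_zero {J ι : Type*} [Fintype J] [Fintype ι] [DecidableEq ι]
    (hJ : 2 * Fintype.card J < Fintype.card ι) (c : J → ι → ι → F)
    (hreal : ∀ j, ∀ x : ι → F, (∀ i, x i ^ q = x i) →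
      (∑ i, ∑ i', c j i i' * (x i * x i')) ^ q = ∑ i, ∑ i', c j i i' * (x i * x i')) :
    ∃ x : ι → F, (∀ i, x i ^ q = x i) ∧ x ≠ 0 ∧ ∀ j, ∑ i, ∑ i', c j i i' * (x i * x i') = 0 := by
  classical
  haveI : Fintype (F0 hF) := Fintype.ofFinite _
  have hq := HermStd.one_lt_q hF
  by_contra hc
  push Not at hc
  let φ : J → MvPolynomial ι F := fun j => ∑ i, ∑ i', MvPolynomial.C (c j i i') * (MvPolynomial.X i * MvPolynomial.X i')
  let P : MvPolynomial ι F := ∏ j, (1 - φ j ^ (q - 1))
  have hφ : ∀ j, (φ j).totalDegree ≤ 2 := fun j => by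
    refine MvPolynomial.totalDegree_finsetSum_le fun i _ => MvPolynomial.totalDegree_finsetSum_le fun i' _ => ?_
    refine (MvPolynomial.totalDegree_mul _ _).trans ?_
    rw [MvPolynomial.totalDegree_C, zero_add]
    refine (MvPolynomial.totalDegree_mul _ _).trans ?_
    simp [MvPolynomial.totalDegree_X]
  have hP : P.totalDegree < (q - 1) * Fintype.card ι := by
    refine lt_of_le_of_lt ((MvPolynomial.totalDegree_finset_prod _ _).trans
      (Finset.sum_le_card_nsmul _ _ ((q - 1) * 2) fun j _ => ?_)) ?_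
    · refine (MvPolynomial.totalDegree_sub _ _).trans ?_
      rw [MvPolynomial.totalDegree_one, max_eq_right (Nat.zero_le _)]
      exact (MvPolynomial.totalDegree_pow _ _).trans (Nat.mul_le_mul_left _ (hφ j))
    · rw [Finset.card_univ, smul_eq_mul, mul_comm, mul_assoc]
      exact Nat.mul_lt_mul_of_pos_left hJ (by omega)
  have hev : ∀ x : ι → F0 hF, MvPolynomial.eval (fun i => (x i : F)) P = if x = 0 then 1 else 0 := by
    intro x
    simp only [P, map_prod, map_sub, map_one, map_pow]
    split_ifs with hx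
    · subst hx
      refine Finset.prod_eq_one fun j _ => ?_
      rw [show MvPolynomial.eval (fun i => (((0 : ι → F0 hF) i : F0 hF) : F)) (φ j) = 0 by simp [φ],
        zero_pow (by omega), sub_zero]
    · obtain ⟨j, hj⟩ := hc (fun i => (x i : F)) (fun i => (mem_F0 hF).1 (x i).2) fun h =>
        hx (funext fun i => Subtype.ext (congrFun h i))
      refine Finset.prod_eq_zero (Finset.mem_univ j) ?_
      rw [sub_eq_zero, eq_comm]
      have he : MvPolynomial.eval (fun i => (x i : F)) (φ j) = ∑ i, ∑ i', c j i i' * ((x i : F) * x i') := by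
        simp [φ]
      rw [he]
      refine mul_left_cancel₀ hj ?_
      rw [← pow_succ', Nat.sub_add_cancel hq.le, hreal j _ fun i => (mem_F0 hF).1 (x i).2, mul_one]
  have h := sum_eval_eq_zero hF P hP
  rw [Finset.sum_congr rfl fun x _ => hev x, Finset.sum_ite_eq', if_pos (Finset.mem_univ _)] at h
  exact one_ne_zero h

end Cfsg.Agent.Forms.Max.UnitExtField
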