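import Mathlib
import Cfsg.Agent.Lib.Forms.Max.UnitaryBase
import Cfsg.Agent.Lib.Forms.Max.UnitExtField.Count

/-!
# The hermitian form over an adjoint-closed extension field of odd prime degree
-/

set_option autoImplicit false
set_option linter.unusedSectionVars false

namespace Cfsg.Agent.Forms.Max.UnitExtField

open Matrix Cfsg.Agent.Classical.Unitary

variable {F : Type*} [Field F] [Fintype F] {q n : ℕ} {K : Type*} [Field K] [Algebra F K] [FiniteDimensional F K]
  [Module K (Fin n → F)] [IsScalarTower F K (Fin n → F)]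

local notation "Vec" => (Fin n → F)
local notation "GLn" => GL (Fin n) F
local notation "Mat" => Matrix (Fin n) (Fin n) F
local notation "H" => Cfsg.hermForm n F q
local notation "SUn" => (Cfsg.GU n F q ⊓ Cfsg.Geo.specialLinear (Fin n) F)
local notation:80 g " •ᵥ " x:81 => Matrix.mulVec (Units.val g) x

/-- an adjoint-closed extension of odd prime degree -/
structure Data (F : Type*) [Field F] [Fintype F] (q n : ℕ) (K : Type*) [Field K] [Algebra F K]
    [Module K (Fin n → F)] where
  hF : Fintype.card F = q ^ 2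
  τ : K →+* K
  hττ : ∀ k, τ (τ k) = k
  hτF : ∀ a : F, τ (algebraMap F K a) = algebraMap F K (a ^ q)
  χ : K →ₗ[F] F
  hχ : χ ≠ 0
  hχτ : ∀ k, χ (τ k) = χ k ^ q
  hr : (Module.finrank F K).Prime
  hr2 : Module.finrank F K ≠ 2
  hd : Module.finrank K (Fin n → F) = 2 ∨ 4 ≤ Module.finrank K (Fin n → F) ∨
    (Module.finrank K (Fin n → F) = 3 ∧ Module.finrank F K = 3)
  hsmall : 3 ≤ Module.finrank K (Fin n → F) ∨ 3 ≤ q ∨ 5 ≤ Module.finrank F K
  hadj : ∀ (k : K) (x y : Fin n → F), Cfsg.hermForm n F q (k • x) y = Cfsg.hermForm n F q x (τ k • y)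

variable (D : Data F q n K)

/-! ### Scalars -/

theorem τ_smul (a : F) (k : K) : D.τ (a • k) = (a ^ q) • D.τ k := by
  rw [Algebra.smul_def, map_mul, D.hτF, Algebra.smul_def]

include D in
theorem finrank_pos' : 0 < Module.finrank F K := D.hr.pos

include D in
theorem three_le_finrank : 3 ≤ Module.finrank F K := by
  have := D.hr.two_le
  have := D.hr2
  omega

/-- the fixed field of the adjoint -/
def fixL : Subfield K := RingHom.eqLocusField D.τ (RingHom.id K)

theorem mem_fixL {k : K} : k ∈ fixL D ↔ D.τ k = k := Iff.rfl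

theorem alg_mem_fixL {a : F} (ha : a ^ q = a) : algebraMap F K a ∈ fixL D := by
  rw [mem_fixL, D.hτF, ha]

theorem mul_τ_mem (k : K) : k * D.τ k ∈ fixL D := by
  rw [mem_fixL, map_mul, D.hττ, mul_comm]

theorem add_τ_mem (k : K) : k + D.τ k ∈ fixL D := by
  rw [mem_fixL, map_add, D.hττ, add_comm]

theorem τ_ne_zero {k : K} (h : k ≠ 0) : D.τ k ≠ 0 := (map_ne_zero D.τ).2 h

include D in
theorem exists_trace_one : ∃ t : F, t + t ^ q = 1 := exists_trace_eq D.hF (c := 1) (one_pow q)

/-- skew elements are multiples of fixed ones -/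
theorem exists_split {w : F} (hw : w ^ q ≠ w) (z : K) :
    ∃ a ∈ fixL D, ∃ b ∈ fixL D, z = a + algebraMap F K w * b := by
  have h0 : algebraMap F K w - algebraMap F K (w ^ q) ≠ 0 := by
    rw [← map_sub]
    exact (map_ne_zero _).2 (sub_ne_zero.2 (Ne.symm hw))
  have hb : D.τ ((z - D.τ z) / (algebraMap F K w - algebraMap F K (w ^ q))) =
      (z - D.τ z) / (algebraMap F K w - algebraMap F K (w ^ q)) := by
    rw [map_div₀, map_sub, map_sub, D.hττ, D.hτF, D.hτF, pow_qq D.hF,
      ← neg_sub z, ← neg_sub (algebraMap F K w), neg_div_neg_eq]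
  refine ⟨z - algebraMap F K w * ((z - D.τ z) / (algebraMap F K w - algebraMap F K (w ^ q))), ?_, _, hb,
    by ring⟩
  rw [mem_fixL, map_sub, map_mul, hb, D.hτF]
  field_simp
  ring

theorem split_unique {w : F} (hw : w ^ q ≠ w) {a b a' b' : K} (ha : a ∈ fixL D) (hb : b ∈ fixL D)
    (ha' : a' ∈ fixL D) (hb' : b' ∈ fixL D)
    (e : a + algebraMap F K w * b = a' + algebraMap F K w * b') : a = a' ∧ b = b' := by
  rw [mem_fixL] at ha hb ha' hb'
  have e' := congrArg D.τ e
  simp only [map_add, map_mul, D.hτF, ha, hb, ha', hb'] at e'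
  have h0 : algebraMap F K w - algebraMap F K (w ^ q) ≠ 0 := by
    rw [← map_sub]
    exact (map_ne_zero _).2 (sub_ne_zero.2 (Ne.symm hw))
  have hb2 : b = b' := mul_left_cancel₀ h0 (by linear_combination e - e')
  subst hb2
  exact ⟨by linear_combination e, rfl⟩

include D in
theorem finite_K : Finite K := Module.finite_of_finite F

theorem natCard_fixL : Nat.card (fixL D) = q ^ Module.finrank F K := by
  haveI := finite_K D
  obtain ⟨w, hw⟩ := exists_moved_scalar D.hF
  have hbij : Function.Bijective fun p : fixL D × fixL D => (p.1 : K) + algebraMap F K w * p.2 := by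
    refine ⟨fun p p' e => ?_, fun z => ?_⟩
    · obtain ⟨h1, h2⟩ := split_unique D hw p.1.2 p.2.2 p'.1.2 p'.2.2 e
      exact Prod.ext (Subtype.ext h1) (Subtype.ext h2)
    · obtain ⟨a, ha, b, hb, rfl⟩ := exists_split D hw z
      exact ⟨(⟨a, ha⟩, ⟨b, hb⟩), rfl⟩
  have h := Nat.card_eq_of_bijective _ hbij
  rw [Nat.card_prod, Module.natCard_eq_pow_finrank (K := F) (V := K), Nat.card_eq_fintype_card (α := F), D.hF,
    ← pow_mul, mul_comm 2, pow_mul, ← sq] at h
  exact Nat.pow_left_injective two_ne_zero h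

/-- the form `(k, l) ↦ χ (k l)` is perfect -/
noncomputable def dual : K ≃ₗ[F] Module.Dual F K :=
  LinearEquiv.ofBijective ((LinearMap.mul F K).compr₂ D.χ) (by
    have hinj : Function.Injective ((LinearMap.mul F K).compr₂ D.χ) := by
      rw [← LinearMap.ker_eq_bot, LinearMap.ker_eq_bot']
      intro a ha
      by_contra h
      refine D.hχ (LinearMap.ext fun k => ?_)
      have := LinearMap.congr_fun ha (a⁻¹ * k)
      rwa [LinearMap.compr₂_apply, LinearMap.mul_apply', mul_inv_cancel_left₀ h, LinearMap.zero_apply] at this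
    exact ⟨hinj, (LinearMap.injective_iff_surjective_of_finrank_eq_finrank Subspace.dual_finrank_eq.symm).1 hinj⟩)

theorem dual_apply (a k : K) : dual D a k = D.χ (a * k) := rfl

theorem chi_ext {a b : K} (h : ∀ k : K, D.χ (k * a) = D.χ (k * b)) : a = b :=
  (dual D).injective (LinearMap.ext fun k => by rw [dual_apply, dual_apply, mul_comm, h, mul_comm])

theorem exists_chi {a : K} (ha : a ≠ 0) (s : F) : ∃ k : K, D.χ (k * a) = s := by
  obtain ⟨k, hk⟩ : ∃ k, D.χ (k * a) ≠ 0 := by
    by_contra hc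
    push Not at hc
    exact ha (chi_ext D fun k => by rw [hc, mul_zero, map_zero])
  exact ⟨(s / D.χ (k * a)) • k, by rw [smul_mul_assoc, map_smul, smul_eq_mul, div_mul_cancel₀ _ hk]⟩

theorem chi_real {l : K} (hl : l ∈ fixL D) : D.χ l ^ q = D.χ l := by rw [← D.hχτ, (mem_fixL D).1 hl]

/-! ### The form over `K` -/

/-- the functional `k ↦ H (k x) y` -/
noncomputable def smulFun (x y : Fin n → F) : Module.Dual F K :=
  (hlin q y).comp ((LinearMap.toSpanSingleton K _ x).restrictScalars F)

/-- the `K`-valued form -/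
noncomputable def hf (x y : Fin n → F) : K := (dual D).symm (smulFun (q := q) x y)

theorem hf_spec (k : K) (x y : Vec) : D.χ (k * hf D x y) = H (k • x) y := by
  rw [mul_comm, ← dual_apply, hf, LinearEquiv.apply_symm_apply]
  rfl

theorem H_eq (x y : Vec) : H x y = D.χ (hf D x y) := by
  have := hf_spec D 1 x y
  rwa [one_mul, one_smul, eq_comm] at this

theorem hf_add_left (x x' y : Vec) : hf D (x + x') y = hf D x y + hf D x' y :=
  chi_ext D fun k => by rw [mul_add, map_add, hf_spec, hf_spec, hf_spec, smul_add, H_add_left]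

theorem hf_smul_left (c : K) (x y : Vec) : hf D (c • x) y = c * hf D x y :=
  chi_ext D fun k => by rw [hf_spec, ← mul_assoc, hf_spec, smul_smul]

theorem hf_add_right (x y y' : Vec) : hf D x (y + y') = hf D x y + hf D x y' :=
  chi_ext D fun k => by rw [mul_add, map_add, hf_spec, hf_spec, hf_spec, H_add_right D.hF]

theorem hf_smul_right (c : K) (x y : Vec) : hf D x (c • y) = D.τ c * hf D x y :=
  chi_ext D fun k => by
    rw [hf_spec, ← mul_assoc, hf_spec, mul_comm k, ← smul_smul, D.hadj (D.τ c), D.hττ]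

theorem hf_conj (x y : Vec) : D.τ (hf D x y) = hf D y x :=
  chi_ext D fun k => by
    have e : k * D.τ (hf D x y) = D.τ (D.τ k * hf D x y) := by rw [map_mul, D.hττ]
    rw [e, D.hχτ, hf_spec, hf_spec, H_conj D.hF, D.hadj k]

theorem hf_zero_left (y : Vec) : hf D 0 y = 0 := by
  have := hf_smul_left D 0 0 y
  rwa [zero_smul, zero_mul] at this

theorem hf_zero_right (x : Vec) : hf D x 0 = 0 := by
  rw [← hf_conj D, hf_zero_left, map_zero]

theorem hf_neg_left (x y : Vec) : hf D (-x) y = - hf D x y := by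
  rw [← neg_one_smul K x, hf_smul_left, neg_one_mul]

theorem hf_neg_right (x y : Vec) : hf D x (-y) = - hf D x y := by
  rw [← neg_one_smul K y, hf_smul_right, map_neg, map_one, neg_one_mul]

theorem hf_sub_left (x x' y : Vec) : hf D (x - x') y = hf D x y - hf D x' y := by
  rw [sub_eq_add_neg, hf_add_left, hf_neg_left, ← sub_eq_add_neg]

theorem hf_sub_right (x y y' : Vec) : hf D x (y - y') = hf D x y - hf D x y' := by
  rw [sub_eq_add_neg, hf_add_right, hf_neg_right, ← sub_eq_add_neg]

theorem hf_smul_left' (a : F) (x y : Vec) : hf D (a • x) y = a • hf D x y := by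
  rw [← algebraMap_smul K a x, hf_smul_left, Algebra.smul_def]

theorem hf_eq_zero_comm {x y : Vec} : hf D x y = 0 ↔ hf D y x = 0 := by
  constructor <;> intro h <;> rw [← hf_conj D, h, map_zero]

theorem hf_self_mem (x : Vec) : hf D x x ∈ fixL D := hf_conj D x x

/-- the form as a linear map in the first variable -/
noncomputable def hl (y : Fin n → F) : (Fin n → F) →ₗ[K] K where
  toFun x := hf D x y
  map_add' x x' := hf_add_left D x x' y
  map_smul' c x := hf_smul_left D c x y

theorem hl_apply (x y : Vec) : hl D y x = hf D x y := rfl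

theorem hf_nondeg {x : Vec} (h : ∀ y, hf D x y = 0) : x = 0 :=
  eq_zero_of_H D.hF fun y => by rw [H_eq D, h, map_zero]

theorem hf_ext {x x' : Vec} (h : ∀ y, hf D x y = hf D x' y) : x = x' :=
  sub_eq_zero.1 (hf_nondeg D fun y => by rw [hf_sub_left, h, sub_self])

theorem exists_hf_one {x : Vec} (hx : x ≠ 0) : ∃ y, hf D x y = 1 := by
  obtain ⟨y, hy⟩ : ∃ y, hf D x y ≠ 0 := by
    by_contra hc
    push Not at hc
    exact hx (hf_nondeg D hc)
  exact ⟨D.τ (hf D x y)⁻¹ • y, by rw [hf_smul_right, D.hττ, inv_mul_cancel₀ hy]⟩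

theorem hf_isometry {g : GLn} (hg : g ∈ SUn) (hK : ∀ (k : K) x, g •ᵥ (k • x) = k • (g •ᵥ x))
    (x y : Vec) : hf D (g •ᵥ x) (g •ᵥ y) = hf D x y :=
  chi_ext D fun k => by rw [hf_spec, hf_spec, ← hK, (Unitary.mem_SUn.1 hg).1]

/-! ### Elements of the group -/

theorem exists_elem (T : (Fin n → F) →ₗ[K] (Fin n → F)) (hT : ∀ x y, hf D (T x) (T y) = hf D x y)
    (hdet : Algebra.norm F (LinearMap.det T) = 1) :
    ∃ g ∈ SUn, (∀ x, g •ᵥ x = T x) ∧ ∀ (k : K) x, g •ᵥ (k • x) = k • (g •ᵥ x) := by
  let L : Vec →ₗ[F] Vec := T.restrictScalars F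
  have hinj : Function.Injective L := by
    rw [← LinearMap.ker_eq_bot, LinearMap.ker_eq_bot']
    intro x hx
    refine hf_nondeg D fun y => ?_
    rw [← hT, show T x = 0 from hx, hf_zero_left]
  let Le := LinearEquiv.ofBijective L ⟨hinj, LinearMap.injective_iff_surjective.1 hinj⟩
  let g : GLn := ⟨LinearMap.toMatrix' Le.toLinearMap, LinearMap.toMatrix' Le.symm.toLinearMap,
    by rw [← LinearMap.toMatrix'_comp]; simp, by rw [← LinearMap.toMatrix'_comp]; simp⟩
  have hg : ∀ x, g •ᵥ x = T x := fun x => by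
    show LinearMap.toMatrix' Le.toLinearMap *ᵥ x = _
    rw [LinearMap.toMatrix'_mulVec]
    rfl
  refine ⟨g, Unitary.mem_SUn.2 ⟨fun x y => by rw [hg, hg, H_eq D, hT, ← H_eq D], ?_⟩, hg,
    fun k x => by rw [hg, hg, map_smul]⟩
  show (LinearMap.toMatrix' Le.toLinearMap).det = _
  haveI : Module.Finite K Vec := Module.Finite.of_restrictScalars_finite F K Vec
  rw [LinearMap.det_toMatrix', show Le.toLinearMap = T.restrictScalars F from rfl,
    LinearMap.det_restrictScalars, hdet]

/-- the root element -/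
noncomputable def rtMap (u : Fin n → F) (c : K) : (Fin n → F) →ₗ[K] (Fin n → F) :=
  LinearMap.transvection (c • hl D u) u

theorem rtMap_apply (u : Vec) (c : K) (x : Vec) : rtMap D u c x = x + (c * hf D x u) • u := rfl

theorem exists_rt {u : Vec} (hu : hf D u u = 0) {c : K} (hc : c + D.τ c = 0) :
    ∃ g ∈ SUn, (∀ x, g •ᵥ x = x + (c * hf D x u) • u) ∧ ∀ (k : K) x, g •ᵥ (k • x) = k • (g •ᵥ x) := by
  refine exists_elem D (rtMap D u c) (fun x y => ?_) ?_
  · simp only [rtMap_apply, hf_add_left, hf_add_right, hf_smul_left, hf_smul_right, map_mul, hf_conj, hu]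
    linear_combination (hf D x u * hf D u y) * hc
  · haveI : Module.Finite K Vec := Module.Finite.of_restrictScalars_finite F K Vec
    rw [rtMap, LinearMap.transvection.det, LinearMap.smul_apply, hl_apply, hu, smul_zero, add_zero, map_one]

/-- scaling of a hyperbolic pair -/
noncomputable def pairMap (w p : Fin n → F) (z : K) : (Fin n → F) →ₗ[K] (Fin n → F) :=
  (LinearMap.transvection ((z - 1) • hl D p) w).comp (LinearMap.transvection (((D.τ z)⁻¹ - 1) • hl D w) p)

theorem pairMap_apply {w p : Vec} (hpp : hf D p p = 0) (z : K) (x : Vec) :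
    pairMap D w p z x = x + (((D.τ z)⁻¹ - 1) * hf D x w) • p + ((z - 1) * hf D x p) • w := by
  show x + (((D.τ z)⁻¹ - 1) * hf D x w) • p +
    ((z - 1) * hf D (x + (((D.τ z)⁻¹ - 1) * hf D x w) • p) p) • w = _
  rw [hf_add_left, hf_smul_left, hpp, mul_zero, add_zero]

theorem pairMap_iso {w p : Vec} (hww : hf D w w = 0) (hpp : hf D p p = 0) (hwp : hf D w p = 1) {z : K}
    (hz : z ≠ 0) (x y : Vec) : hf D (pairMap D w p z x) (pairMap D w p z y) = hf D x y := by
  have hpw : hf D p w = 1 := by rw [← hf_conj D, hwp, map_one]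
  have hτz := τ_ne_zero D hz
  simp only [pairMap_apply D hpp, hf_add_left, hf_add_right, hf_smul_left, hf_smul_right, map_mul, map_sub,
    map_inv₀, map_one, hf_conj, D.hττ, hww, hpp, hwp, hpw]
  field_simp
  ring

theorem pairMap_det {w p : Vec} (hwp : hf D w p = 1) (z : K) :
    LinearMap.det (pairMap D w p z) = z / D.τ z := by
  haveI : Module.Finite K Vec := Module.Finite.of_restrictScalars_finite F K Vec
  have hpw : hf D p w = 1 := by rw [← hf_conj D, hwp, map_one]
  rw [pairMap, LinearMap.det_comp, LinearMap.transvection.det, LinearMap.transvection.det,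
    LinearMap.smul_apply, LinearMap.smul_apply, hl_apply, hl_apply, hwp, hpw, smul_eq_mul, smul_eq_mul,
    mul_one, mul_one, add_sub_cancel, add_sub_cancel, div_eq_mul_inv]

/-- the maximal subgroup contains all `K`-linear isometries -/
def LinM (_D : Data F q n K) (M : Subgroup (GL (Fin n) F)) : Prop :=
  ∀ g ∈ Cfsg.GU n F q ⊓ Cfsg.Geo.specialLinear (Fin n) F,
    (∀ (k : K) (x : Fin n → F), (g : Matrix (Fin n) (Fin n) F) *ᵥ (k • x) =
      k • ((g : Matrix (Fin n) (Fin n) F) *ᵥ x)) → g ∈ M

end Cfsg.Agent.Forms.Max.UnitExtField
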