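import Mathlib
import Cfsg.Agent.Lib.Forms.Max.UnitExtField.Basic

/-!
# Duality over the prime field
-/

set_option autoImplicit false
set_option linter.unusedSectionVars false

namespace Cfsg.Agent.Forms.Max.UnitExtField

open Matrix Cfsg.Agent.Classical.Unitary

variable {F : Type*} [Field F] [Fintype F] {q n : ℕ} {K : Type*} [Field K] [Algebra F K] [FiniteDimensional F K]
  [Module K (Fin n → F)] [IsScalarTower F K (Fin n → F)]

variable (D : Data F q n K) {p : ℕ} [Fact p.Prime] [CharP F p]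

include D in
theorem exists_pi : ∃ π : F →+ ZMod p, (∀ x, x ^ q = x → π x = 0) ∧
    ∀ x, (∀ s, s ^ q = s → π (s * x) = 0) → x ^ q = x := by
  letI : Algebra (ZMod p) F := ZMod.algebra F p
  obtain ⟨π₀, h1, -⟩ := Submodule.exists_dual_map_eq_bot_of_notMem (R := ZMod p)
    (p := (⊥ : Submodule (ZMod p) F)) (x := 1) (fun h => one_ne_zero ((Submodule.mem_bot _).1 h)) inferInstance
  obtain ⟨ω, hω⟩ := exists_moved_scalar D.hF
  have hω0 : ω - ω ^ q ≠ 0 := sub_ne_zero.2 (Ne.symm hω)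
  let im : F →+ F :=
    { toFun := fun x => (x - x ^ q) / (ω - ω ^ q)
      map_zero' := by rw [zero_pow (by have := HermStd.one_lt_q D.hF; omega), sub_zero, zero_div]
      map_add' := fun x y => by rw [HermStd.add_pow_q D.hF]; ring }
  have him : ∀ x, im x = (x - x ^ q) / (ω - ω ^ q) := fun _ => rfl
  refine ⟨π₀.toAddMonoidHom.comp im, fun x hx => ?_, fun x h => ?_⟩
  · show π₀ (im x) = 0
    rw [him, hx, sub_self, zero_div, map_zero]
  · by_contra hx
    have hreal : im x ^ q = im x := by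
      rw [him, ← HermStd.qHom_apply D.hF, map_div₀, map_sub, map_sub, HermStd.qHom_apply, HermStd.qHom_apply,
        HermStd.qHom_apply, HermStd.qHom_apply, pow_qq D.hF, pow_qq D.hF, ← neg_sub x, ← neg_sub ω,
        neg_div_neg_eq]
    have hne : im x ≠ 0 := by rw [him]; exact div_ne_zero (sub_ne_zero.2 (Ne.symm hx)) hω0
    have h2 : π₀ (im ((im x)⁻¹ * x)) = 0 := h (im x)⁻¹ (by rw [inv_pow, hreal])
    have e : im ((im x)⁻¹ * x) = 1 := by
      rw [him ((im x)⁻¹ * x), mul_pow, inv_pow, hreal, ← mul_sub, mul_div_assoc, ← him, inv_mul_cancel₀ hne]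
    rw [e] at h2
    exact h1 h2

variable {π : F →+ ZMod p}

theorem eq_zero_of_pi (hπ : ∀ x, (∀ s, s ^ q = s → π (s * x) = 0) → x ^ q = x) {W : K}
    (h : ∀ y : K, π (D.χ (W * D.τ y)) = 0) : W = 0 := by
  obtain ⟨ω, hω⟩ := exists_moved_scalar D.hF
  refine chi_ext D fun k => ?_
  rw [mul_zero, map_zero]
  have hc : ∀ c : F, (c * D.χ (k * W)) ^ q = c * D.χ (k * W) := fun c => hπ _ fun s _ => by
    have e := h (D.τ (algebraMap F K (s * c) * k))
    rw [D.hττ, mul_left_comm, ← Algebra.smul_def, map_smul, smul_eq_mul, mul_comm W, mul_assoc] at e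
    exact e
  have h1 := hc 1
  have h2 := hc ω
  rw [one_mul] at h1
  rw [mul_pow, h1] at h2
  exact (mul_eq_mul_right_iff.1 h2).resolve_left hω

theorem mem_fixL_of_pi (hπ : ∀ x, (∀ s, s ^ q = s → π (s * x) = 0) → x ^ q = x) {W : K}
    (h : ∀ v ∈ fixL D, π (D.χ (W * v)) = 0) : W ∈ fixL D := by
  obtain ⟨ω, hω⟩ := exists_moved_scalar D.hF
  have hv : ∀ v ∈ fixL D, D.χ (v * (D.τ W - W)) = 0 := fun v hv => by
    have hreal : D.χ (W * v) ^ q = D.χ (W * v) := hπ _ fun s hs => by
      rw [← smul_eq_mul, ← map_smul, Algebra.smul_def, mul_left_comm]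
      exact h _ (mul_mem (alg_mem_fixL D hs) hv)
    rw [mul_sub, map_sub, mul_comm v W, ← hreal, ← D.hχτ, map_mul D.τ, (mem_fixL D).1 hv, mul_comm v,
      sub_self]
  rw [mem_fixL, ← sub_eq_zero]
  refine chi_ext D fun k => ?_
  obtain ⟨u, hu, v, hv', rfl⟩ := exists_split D hω k
  rw [mul_zero, map_zero, add_mul, mul_assoc, ← Algebra.smul_def, map_add, map_smul, hv u hu, hv v hv',
    smul_zero, add_zero]

theorem exists_rep (hπ : ∀ x, (∀ s, s ^ q = s → π (s * x) = 0) → x ^ q = x) (φ : K →+ ZMod p) :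
    ∃ W : K, ∀ y, φ y = π (D.χ (W * D.τ y)) := by
  haveI := finite_K D
  haveI : CharP K p := charP_of_injective_algebraMap (algebraMap F K).injective p
  letI : Algebra (ZMod p) K := ZMod.algebra K p
  let Θ : K → (K →+ ZMod p) := fun W =>
    (π.comp D.χ.toAddMonoidHom).comp ((AddMonoidHom.mulLeft W).comp D.τ.toAddMonoidHom)
  have hΘ : ∀ W y, Θ W y = π (D.χ (W * D.τ y)) := fun _ _ => rfl
  let lin : (K →+ ZMod p) → Module.Dual (ZMod p) K := AddMonoidHom.toZModLinearMap p
  have hlin : Function.Injective lin := AddMonoidHom.toZModLinearMap_injective p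
  have hinj : Function.Injective (lin ∘ Θ) := hlin.comp fun W W' e => sub_eq_zero.1 <| eq_zero_of_pi D hπ
    fun y => by rw [sub_mul, map_sub, map_sub, ← hΘ, ← hΘ, e, sub_self]
  haveI : Finite (Module.Dual (ZMod p) K) := Module.finite_of_finite (ZMod p)
  have hcard : Nat.card (Module.Dual (ZMod p) K) ≤ Nat.card K := by
    rw [Module.natCard_eq_pow_finrank (K := ZMod p) (V := Module.Dual (ZMod p) K),
      Module.natCard_eq_pow_finrank (K := ZMod p) (V := K), Subspace.dual_finrank_eq]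
  obtain ⟨W, hW⟩ := (hinj.bijective_of_nat_card_le hcard).2 (lin φ)
  exact ⟨W, fun y => by rw [← hΘ, hlin hW]⟩

end Cfsg.Agent.Forms.Max.UnitExtField
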