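import Mathlib
import Cfsg.Agent.Lib.Forms.Max.UnitExtField.Basic

/-!
# Isotropic lines of the form over `K`; semilinearity
-/

set_option autoImplicit false
set_option linter.unusedSectionVars false

namespace Cfsg.Agent.Forms.Max.UnitExtField

open Matrix Cfsg.Agent.Classical.Unitary

variable {F : Type*} [Field F] [Fintype F] {q n : ℕ} {K : Type*} [Field K] [Algebra F K] [FiniteDimensional F K]
  [Module K (Fin n → F)] [IsScalarTower F K (Fin n → F)]

local notation "Vec" => (Fin n → F)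
local notation "GLn" => GL (Fin n) F
local notation "Mat" => Matrix (Fin n) (Fin n) F
local notation "H" => Cfsg.hermForm n F q
local notation "SUn" => (Cfsg.GU n F q ⊓ Cfsg.Geo.specialLinear (Fin n) F)
local notation:80 g " •ᵥ " x:81 => Matrix.mulVec (Units.val g) x

variable (D : Data F q n K)

theorem τ_ne_id : D.τ ≠ RingHom.id K := fun h => by
  obtain ⟨w, hw⟩ := exists_moved_scalar D.hF
  have := D.hτF w
  rw [h, RingHom.id_apply] at this
  exact hw ((algebraMap F K).injective this).symm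

theorem exists_trace_K {l : K} (hl : l ∈ fixL D) : ∃ z : K, z + D.τ z = l := by
  obtain ⟨t, ht⟩ := exists_trace_one D
  refine ⟨algebraMap F K t * l, ?_⟩
  rw [map_mul, D.hτF, (mem_fixL D).1 hl, ← add_mul, ← map_add, ht, map_one, one_mul]

theorem exists_norm_K {l : K} (hl : l ∈ fixL D) : ∃ z : K, z * D.τ z = l := by
  haveI := finite_K D
  obtain ⟨c, hc⟩ := Bases.exists_norm_eq D.τ (τ_ne_id D) D.hττ l hl
  exact ⟨c, by rw [mul_comm, hc]⟩

theorem exists_trace_hf (x : Vec) : ∃ β : K, β + D.τ β + hf D x x = 0 := by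
  obtain ⟨β, hβ⟩ := exists_trace_K D (neg_mem (hf_self_mem D x))
  exact ⟨β, by rw [hβ, neg_add_cancel]⟩

include D in
theorem exists_skew : ∃ e : F, e ≠ 0 ∧ e + e ^ q = 0 := exists_traceZero D.hF |>.imp fun e h => h

theorem τ_skew {e : F} (he : e + e ^ q = 0) : D.τ (algebraMap F K e) = - algebraMap F K e := by
  rw [D.hτF, ← map_neg]
  congr 1
  linear_combination he

/-- non-degeneracy on a subspace -/
def Nondeg (S : Submodule K (Fin n → F)) : Prop := ∀ w ∈ S, w ≠ 0 → ∃ x ∈ S, hf D w x ≠ 0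

theorem nondeg_top : Nondeg D (⊤ : Submodule K (Fin n → F)) := fun w _ hw => by
  obtain ⟨y, hy⟩ := exists_hf_one D hw
  exact ⟨y, Submodule.mem_top, by rw [hy]; exact one_ne_zero⟩

include D in
theorem finite_module : Module.Finite K (Fin n → F) := Module.Finite.of_restrictScalars_finite F K _

include D in
theorem two_le_top : 2 ≤ Module.finrank K (⊤ : Submodule K (Fin n → F)) := by
  haveI := finite_module D
  rw [finrank_top]
  rcases D.hd with h | h | ⟨h, -⟩ <;> omega

/-- in a non-degenerate subspace of dimension at least two every vector has an isotropic partner -/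
theorem exists_iso_one {S : Submodule K (Fin n → F)} (hS : Nondeg D S) (h2 : 2 ≤ Module.finrank K S)
    {v : Vec} (hv : v ∈ S) (hv0 : v ≠ 0) : ∃ w ∈ S, hf D w w = 0 ∧ hf D v w = 1 := by
  by_cases hvv : hf D v v = 0
  · obtain ⟨x, hx, hvx⟩ := hS v hv hv0
    obtain ⟨y, hyS, hvy⟩ : ∃ y ∈ S, hf D v y = 1 := ⟨D.τ (hf D v x)⁻¹ • x, S.smul_mem _ hx, by
      rw [hf_smul_right, D.hττ, inv_mul_cancel₀ hvx]⟩
    have hyv : hf D y v = 1 := by rw [← hf_conj D, hvy, map_one]
    obtain ⟨β, hβ⟩ := exists_trace_hf D y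
    refine ⟨y + β • v, S.add_mem hyS (S.smul_mem _ hv), ?_, ?_⟩
    · simp only [hf_add_left, hf_add_right, hf_smul_left, hf_smul_right, hvy, hyv, hvv]
      linear_combination hβ
    · rw [hf_add_right, hf_smul_right, hvy, hvv, mul_zero, add_zero]
  · set a := hf D v v with ha
    have haτ : D.τ a = a := hf_self_mem D v
    let pr : Vec → Vec := fun x => x - (hf D x v / a) • v
    have hprS : ∀ x ∈ S, pr x ∈ S := fun x hx => S.sub_mem hx (S.smul_mem _ hv)
    have hprv : ∀ x, hf D (pr x) v = 0 := fun x => by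
      rw [hf_sub_left, hf_smul_left, ← ha, div_mul_cancel₀ _ hvv, sub_self]
    obtain ⟨y, hyS, hyv, hyy⟩ : ∃ y ∈ S, hf D y v = 0 ∧ hf D y y ≠ 0 := by
      by_contra hc
      push Not at hc
      obtain ⟨x, hx, hxv⟩ : ∃ x ∈ S, x ∉ Submodule.span K {v} := by
        by_contra h
        push Not at h
        haveI := finite_module D
        have := (Submodule.finrank_mono (show S ≤ Submodule.span K {v} from h)).trans
          (finrank_span_le_card ({v} : Set Vec))
        simp at this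
        omega
      have hy0 : pr x ≠ 0 := fun h => hxv (by
        rw [sub_eq_zero] at h
        exact h ▸ Submodule.smul_mem _ _ (Submodule.mem_span_singleton_self v))
      have hyy := hc _ (hprS x hx) (hprv x)
      obtain ⟨x', hx', hyx'⟩ := hS _ (hprS x hx) hy0
      have hyy2 : hf D (pr x) (pr x') ≠ 0 := by
        rw [hf_sub_right D (pr x) x', hf_smul_right, hprv, mul_zero, sub_zero]
        exact hyx'
      obtain ⟨t, ht⟩ := exists_trace_one D
      set k := algebraMap F K t / hf D (pr x) (pr x') with hk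
      have hz := hc (k • pr x + pr x') (S.add_mem (S.smul_mem _ (hprS x hx)) (hprS x' hx'))
        (by rw [hf_add_left, hf_smul_left, hprv, hprv, mul_zero, add_zero])
      have hkt : k * hf D (pr x) (pr x') = algebraMap F K t := div_mul_cancel₀ _ hyy2
      have hkt' : D.τ k * hf D (pr x') (pr x) = algebraMap F K (t ^ q) := by
        rw [← hf_conj D (pr x), ← map_mul, hkt, D.hτF]
      simp only [hf_add_left, hf_add_right, hf_smul_left, hf_smul_right, hyy,
        hc _ (hprS x' hx') (hprv x'), mul_zero, zero_add, add_zero, hkt, hkt'] at hz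
      rw [← map_add, map_eq_zero] at hz
      exact one_ne_zero (ht.symm.trans (by linear_combination hz))
    have hvy : hf D v y = 0 := (hf_eq_zero_comm D).1 hyv
    obtain ⟨s, hs⟩ := exists_norm_K D (l := -(1 / a) / hf D y y) (by
      rw [mem_fixL, map_div₀, map_neg, map_div₀, map_one, haτ, hf_conj D])
    refine ⟨(1 / a) • v + s • y, S.add_mem (S.smul_mem _ hv) (S.smul_mem _ hyS), ?_, ?_⟩
    · simp only [hf_add_left, hf_add_right, hf_smul_left, hf_smul_right, hvy, hyv, ← ha, map_div₀, map_one, haτ]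
      have e : s * D.τ s * hf D y y = -(1 / a) := by rw [hs, div_mul_cancel₀ _ hyy]
      have e2 : 1 / a * (1 / a * a) = 1 / a := by rw [div_mul_cancel₀ _ hvv, mul_one]
      linear_combination e + e2
    · rw [hf_add_right, hf_smul_right, hf_smul_right, hvy, mul_zero, add_zero, map_div₀, map_one, haτ,
        div_mul_cancel₀ _ hvv]

/-- isotropic vectors span -/
theorem iso_span {S : Submodule K (Fin n → F)} (hS : Nondeg D S) (h2 : 2 ≤ Module.finrank K S)
    {T : Submodule K (Fin n → F)} (hT : ∀ v ∈ S, hf D v v = 0 → v ∈ T) : S ≤ T := by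
  have h0 : S ≠ ⊥ := fun h => by rw [h, finrank_bot] at h2; omega
  obtain ⟨v, hv, hv0⟩ := Submodule.exists_mem_ne_zero_of_ne_bot h0
  obtain ⟨e, he, hee, hve⟩ := exists_iso_one D hS h2 hv hv0
  have he0 : e ≠ 0 := fun h => by rw [h, hf_zero_right] at hve; exact zero_ne_one hve
  obtain ⟨f, hf', hff, hef⟩ := exists_iso_one D hS h2 he he0
  have hfe : hf D f e = 1 := by rw [← hf_conj D, hef, map_one]
  intro x hx
  set γ := x - hf D x f • e - hf D x e • f with hγ
  have hγe : hf D γ e = 0 := by simp [hγ, hf_sub_left, hf_smul_left, hee, hfe]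
  have hγf : hf D γ f = 0 := by simp [hγ, hf_sub_left, hf_smul_left, hff, hef]
  obtain ⟨β, hβ⟩ := exists_trace_hf D γ
  have hγS : γ ∈ S := S.sub_mem (S.sub_mem hx (S.smul_mem _ he)) (S.smul_mem _ hf')
  have h1 : γ + β • e + f ∈ T := by
    refine hT _ (S.add_mem (S.add_mem hγS (S.smul_mem _ he)) hf') ?_
    simp only [hf_add_left, hf_add_right, hf_smul_left, hf_smul_right, hee, hef, hfe, hff, hγe, hγf,
      (hf_eq_zero_comm D).1 hγe, (hf_eq_zero_comm D).1 hγf]
    linear_combination hβ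
  have e1 : x = (γ + β • e + f) + (hf D x f - β) • e + (hf D x e - 1) • f := by
    rw [hγ]; module
  rw [e1]
  exact T.add_mem (T.add_mem h1 (T.smul_mem _ (hT e he hee))) (T.smul_mem _ (hT f hf' hff))

theorem exists_iso_partner {w : Vec} (hw : w ≠ 0) : ∃ p, hf D p p = 0 ∧ hf D w p = 1 := by
  obtain ⟨p, -, h1, h2⟩ := exists_iso_one D (nondeg_top D) (two_le_top D) Submodule.mem_top hw
  exact ⟨p, h1, h2⟩

theorem exists_iso : ∃ w : Vec, w ≠ 0 ∧ hf D w w = 0 := by
  haveI := finite_module D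
  obtain ⟨v, hv⟩ : ∃ v : Vec, v ≠ 0 := by
    by_contra hc
    push Not at hc
    haveI : Subsingleton Vec := ⟨fun a b => by rw [hc a, hc b]⟩
    have := Module.finrank_zero_of_subsingleton (R := K) (M := Vec)
    rcases D.hd with h | h | ⟨h, -⟩ <;> omega
  obtain ⟨w, hww, hvw⟩ := exists_iso_partner D hv
  exact ⟨w, fun h => by rw [h, hf_zero_right] at hvw; exact zero_ne_one hvw, hww⟩

/-- the orthogonal complement of a pair -/
noncomputable def perp2 (w p : Fin n → F) : Submodule K (Fin n → F) := LinearMap.ker (hl D w) ⊓ LinearMap.ker (hl D p)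

theorem mem_perp2 {w p x : Vec} : x ∈ perp2 D w p ↔ hf D x w = 0 ∧ hf D x p = 0 := by
  simp [perp2, hl_apply]

theorem perp2_part {w p : Vec} (hww : hf D w w = 0) (hpp : hf D p p = 0) (hwp : hf D w p = 1) (x : Vec) :
    x - hf D x p • w - hf D x w • p ∈ perp2 D w p := by
  have hpw : hf D p w = 1 := by rw [← hf_conj D, hwp, map_one]
  refine (mem_perp2 D).2 ⟨?_, ?_⟩ <;>
    simp [hf_sub_left, hf_smul_left, hww, hpp, hwp, hpw]

theorem perp2_nondeg {w p : Vec} (hww : hf D w w = 0) (hpp : hf D p p = 0) (hwp : hf D w p = 1) :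
    Nondeg D (perp2 D w p) := by
  intro u hu hu0
  obtain ⟨hu1, hu2⟩ := (mem_perp2 D).1 hu
  obtain ⟨y, hy⟩ := exists_hf_one D hu0
  refine ⟨_, perp2_part D hww hpp hwp y, ?_⟩
  rw [hf_sub_right, hf_sub_right, hf_smul_right, hf_smul_right, hu1, hu2, hy, mul_zero, mul_zero, sub_zero,
    sub_zero]
  exact one_ne_zero

theorem finrank_perp2 {w p : Vec} (hww : hf D w w = 0) (hpp : hf D p p = 0) (hwp : hf D w p = 1) :
    Module.finrank K (perp2 D w p) + 2 = Module.finrank K (Fin n → F) := by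
  haveI := finite_module D
  have hpw : hf D p w = 1 := by rw [← hf_conj D, hwp, map_one]
  let T : Vec →ₗ[K] K × K := (hl D w).prod (hl D p)
  have hsurj : LinearMap.range T = ⊤ := LinearMap.range_eq_top.2 fun z => ⟨z.1 • p + z.2 • w, by
    ext <;> simp [T, hl_apply, hf_add_left, hf_smul_left, hww, hpp, hwp, hpw]⟩
  have hker : LinearMap.ker T = perp2 D w p := by
    ext x
    simp [T, perp2, Prod.ext_iff]
  have h := LinearMap.finrank_range_add_finrank_ker T
  rw [hsurj, hker, finrank_top, Module.finrank_prod, Module.finrank_self] at h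
  omega

theorem two_le_perp2 {w p : Vec} (hww : hf D w w = 0) (hpp : hf D p p = 0) (hwp : hf D w p = 1)
    (h4 : 4 ≤ Module.finrank K (Fin n → F)) : 2 ≤ Module.finrank K (perp2 D w p) := by
  have := finrank_perp2 D hww hpp hwp
  omega

/-- a scalar occurring on every isotropic line -/
def Scal (z : K) : Prop :=
  ∀ w : Fin n → F, w ≠ 0 → hf D w w = 0 → ∃ g ∈ Cfsg.GU n F q ⊓ Cfsg.Geo.specialLinear (Fin n) F,
    (∀ (k : K) (x : Fin n → F), (g : Matrix (Fin n) (Fin n) F) *ᵥ (k • x) =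
      k • ((g : Matrix (Fin n) (Fin n) F) *ᵥ x)) ∧
      (g : Matrix (Fin n) (Fin n) F) *ᵥ w = z • w

theorem scal_of_norm {z : K} (hz : z ≠ 0) (h : Algebra.norm F (z / D.τ z) = 1) : Scal D z := by
  intro w hw hww
  obtain ⟨p, hpp, hwp⟩ := exists_iso_partner D hw
  obtain ⟨g, hg, hgx, hgK⟩ := exists_elem D (pairMap D w p z) (pairMap_iso D hww hpp hwp hz)
    (by rw [pairMap_det D hwp, h])
  refine ⟨g, hg, hgK, ?_⟩
  rw [hgx, pairMap_apply D hpp, hww, hwp, mul_zero, zero_smul, add_zero, mul_one, sub_smul, one_smul,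
    add_sub_cancel]

theorem scal_of_four (h4 : 4 ≤ Module.finrank K (Fin n → F)) {z : K} (hz : z ≠ 0) : Scal D z := by
  intro w hw hww
  obtain ⟨p, hpp, hwp⟩ := exists_iso_partner D hw
  have hS := perp2_nondeg D hww hpp hwp
  have h2 := two_le_perp2 D hww hpp hwp h4
  have h0 : perp2 D w p ≠ ⊥ := fun h => by rw [h, finrank_bot] at h2; omega
  obtain ⟨v, hv, hv0⟩ := Submodule.exists_mem_ne_zero_of_ne_bot h0
  obtain ⟨w', hw', hw'w', hvw'⟩ := exists_iso_one D hS h2 hv hv0
  have hw'0 : w' ≠ 0 := fun h => by rw [h, hf_zero_right] at hvw'; exact zero_ne_one hvw'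
  obtain ⟨p', hp', hp'p', hw'p'⟩ := exists_iso_one D hS h2 hw' hw'0
  have hzi : z⁻¹ ≠ 0 := inv_ne_zero hz
  obtain ⟨g, hg, hgx, hgK⟩ := exists_elem D ((pairMap D w p z).comp (pairMap D w' p' z⁻¹))
    (fun x y => by
      rw [LinearMap.comp_apply, LinearMap.comp_apply, pairMap_iso D hww hpp hwp hz,
        pairMap_iso D hw'w' hp'p' hw'p' hzi])
    (by
      rw [LinearMap.det_comp, pairMap_det D hwp, pairMap_det D hw'p', map_inv₀,
        show z / D.τ z * (z⁻¹ / (D.τ z)⁻¹) = 1 by
          have := τ_ne_zero D hz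
          field_simp,
        map_one])
  refine ⟨g, hg, hgK, ?_⟩
  have h1 : hf D w w' = 0 := (hf_eq_zero_comm D).1 ((mem_perp2 D).1 hw').1
  have h2' : hf D w p' = 0 := (hf_eq_zero_comm D).1 ((mem_perp2 D).1 hp').1
  rw [hgx, LinearMap.comp_apply, pairMap_apply D hp'p', h1, h2', mul_zero, mul_zero, zero_smul, zero_smul,
    add_zero, add_zero, pairMap_apply D hpp, hww, hwp, mul_zero, zero_smul, add_zero, mul_one, sub_smul,
    one_smul, add_sub_cancel]

theorem scal_of_three (h3 : Module.finrank K (Fin n → F) = 3) {z : K} (hz : z ≠ 0) : Scal D z := by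
  intro w hw hww
  obtain ⟨p, hpp, hwp⟩ := exists_iso_partner D hw
  have h1 := finrank_perp2 D hww hpp hwp
  haveI := finite_module D
  obtain ⟨u, hu, huu⟩ : ∃ u ∈ perp2 D w p, hf D u u ≠ 0 := by
    obtain ⟨⟨v, hv⟩, hv0, hspan⟩ := finrank_eq_one_iff'.1 (show Module.finrank K (perp2 D w p) = 1 by omega)
    obtain ⟨x, hx, hvx⟩ := perp2_nondeg D hww hpp hwp v hv fun h => hv0 (Subtype.ext h)
    obtain ⟨c, hc⟩ := hspan ⟨x, hx⟩
    refine ⟨v, hv, fun h => hvx ?_⟩
    rw [show x = c • v from (congrArg Subtype.val hc).symm, hf_smul_right, h, mul_zero]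
  set μ := D.τ z / z with hμ
  have hτz := τ_ne_zero D hz
  have hμ1 : μ * D.τ μ = 1 := by rw [hμ, map_div₀, D.hττ]; field_simp
  have hτu : D.τ (hf D u u) = hf D u u := hf_self_mem D u
  obtain ⟨g, hg, hgx, hgK⟩ := exists_elem D
    ((pairMap D w p z).comp (LinearMap.transvection (((μ - 1) / hf D u u) • hl D u) u))
    (fun x y => by
      rw [LinearMap.comp_apply, LinearMap.comp_apply, pairMap_iso D hww hpp hwp hz]
      show hf D (x + ((μ - 1) / hf D u u * hf D x u) • u) (y + ((μ - 1) / hf D u u * hf D y u) • u) = _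
      simp only [hf_add_left, hf_add_right, hf_smul_left, hf_smul_right, map_mul, map_div₀, map_sub, map_one,
        hf_conj, hτu]
      field_simp
      linear_combination (hf D x u * hf D u y) * hμ1)
    (by
      rw [LinearMap.det_comp, pairMap_det D hwp, LinearMap.transvection.det, LinearMap.smul_apply, hl_apply,
        smul_eq_mul, div_mul_cancel₀ _ huu, add_sub_cancel, hμ,
        show z / D.τ z * (D.τ z / z) = 1 by field_simp, map_one])
  refine ⟨g, hg, hgK, ?_⟩
  have h2 : hf D w u = 0 := (hf_eq_zero_comm D).1 ((mem_perp2 D).1 hu).1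
  rw [hgx, LinearMap.comp_apply]
  show pairMap D w p z (w + ((μ - 1) / hf D u u * hf D w u) • u) = _
  rw [h2, mul_zero, zero_smul, add_zero, pairMap_apply D hpp, hww, hwp, mul_zero, zero_smul, add_zero, mul_one,
    sub_smul, one_smul, add_sub_cancel]

theorem scal_fix {l : K} (hl : l ∈ fixL D) (hl0 : l ≠ 0) : Scal D l :=
  scal_of_norm D hl0 (by rw [(mem_fixL D).1 hl, div_self hl0, map_one])

/-- isotropic vectors are linked -/
theorem exists_common {w₁ w₂ : Vec} (h1 : w₁ ≠ 0) (h2 : w₂ ≠ 0) :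
    ∃ v, hf D v v = 0 ∧ hf D w₁ v ≠ 0 ∧ hf D w₂ v ≠ 0 := by
  obtain ⟨v₁, hv₁, hwv₁⟩ := exists_iso_partner D h1
  obtain ⟨v₂, hv₂, hwv₂⟩ := exists_iso_partner D h2
  by_cases ha : hf D w₂ v₁ = 0
  swap
  · exact ⟨v₁, hv₁, by rw [hwv₁]; exact one_ne_zero, ha⟩
  by_cases hb : hf D w₁ v₂ = 0
  swap
  · exact ⟨v₂, hv₂, hb, by rw [hwv₂]; exact one_ne_zero⟩
  obtain ⟨e, he0, he⟩ := exists_skew D
  obtain ⟨k, hk0, hk⟩ : ∃ k : K, k ≠ 0 ∧ k * hf D v₁ v₂ + D.τ (k * hf D v₁ v₂) = 0 := by
    by_cases h : hf D v₁ v₂ = 0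
    · exact ⟨1, one_ne_zero, by rw [h, mul_zero, map_zero, add_zero]⟩
    · refine ⟨algebraMap F K e / hf D v₁ v₂, div_ne_zero ((map_ne_zero _).2 he0) h, ?_⟩
      rw [div_mul_cancel₀ _ h, τ_skew D he, add_neg_cancel]
  refine ⟨k • v₁ + v₂, ?_, ?_, ?_⟩
  · rw [map_mul, hf_conj D] at hk
    simp only [hf_add_left, hf_add_right, hf_smul_left, hf_smul_right, hv₁, hv₂]
    linear_combination hk
  · rw [hf_add_right, hf_smul_right, hwv₁, hb, mul_one, add_zero]
    exact τ_ne_zero D hk0
  · rw [hf_add_right, hf_smul_right, hwv₂, ha, mul_zero, zero_add]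
    exact one_ne_zero

/-- preserving the isotropic `K`-lines forces semilinearity -/
theorem semilinear {g : GLn}
    (h : ∀ w : Vec, hf D w w = 0 → ∀ k : K, ∃ k' : K, g •ᵥ (k • w) = k' • (g •ᵥ w)) :
    ∀ k : K, ∃ k' : K, ∀ x : Vec, g •ᵥ (k • x) = k' • (g •ᵥ x) := by
  haveI := finite_K D
  have hex : ∀ (w : Vec) (k : K), ∃ k' : K, hf D w w = 0 → g •ᵥ (k • w) = k' • (g •ᵥ w) := fun w k => by
    by_cases hw : hf D w w = 0
    · obtain ⟨k', hk'⟩ := h w hw k
      exact ⟨k', fun _ => hk'⟩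
    · exact ⟨0, fun h' => absurd h' hw⟩
  choose α hα using hex
  have hgi : ∀ {x y : Vec}, g •ᵥ x = g •ᵥ y → x = y := fun {x y} e => Max.mulVec_inj g e
  have hne : ∀ {w : Vec}, w ≠ 0 → g •ᵥ w ≠ 0 := fun hw e => hw (hgi (by rw [e, mulVec_zero]))
  have hsm : ∀ {s t : K} {w : Vec}, w ≠ 0 → s • (g •ᵥ w) = t • (g •ᵥ w) → s = t := fun hw e => by
    by_contra hst
    have e' : (_ - _ : K) • (g •ᵥ _) = 0 := (sub_smul _ _ _).trans (sub_eq_zero.2 e)
    exact hne hw ((smul_eq_zero.1 e').resolve_left (sub_ne_zero.2 hst))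
  have hinj : ∀ {w : Vec}, w ≠ 0 → hf D w w = 0 → Function.Surjective (α w) := fun {w} hw hww =>
    Finite.injective_iff_surjective.1 fun k k' e => by
      have e1 : g •ᵥ (k • w) = g •ᵥ (k' • w) := by rw [hα w k hww, hα w k' hww, e]
      by_contra hkk
      exact hw ((smul_eq_zero.1 ((sub_smul k k' w).trans (sub_eq_zero.2 (hgi e1)))).resolve_left
        (sub_ne_zero.2 hkk))
  obtain ⟨e, he0, he⟩ := exists_skew D
  have key : ∀ {w p : Vec}, hf D w w = 0 → hf D p p = 0 → hf D w p ∈ fixL D → hf D w p ≠ 0 →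
      α w = α p := by
    intro w p hww hpp hl hl0
    have hw0 : w ≠ 0 := fun h0 => hl0 (by rw [h0, hf_zero_left])
    have hp0 : p ≠ 0 := fun h0 => hl0 (by rw [h0, hf_zero_right])
    have hpw : hf D p w = hf D w p := by rw [← hf_conj D, (mem_fixL D).1 hl]
    have hu : hf D (w + e • p) (w + e • p) = 0 := by
      rw [← algebraMap_smul K e p]
      simp only [hf_add_left, hf_add_right, hf_smul_left, hf_smul_right, hww, hpp, hpw, τ_skew D he]
      ring
    funext k
    have e1 := hα _ k hu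
    rw [smul_add, mulVec_add, smul_comm k e, mulVec_smul, mulVec_add, mulVec_smul, hα w k hww, hα p k hpp,
      smul_add, smul_comm (α (w + e • p) k) e] at e1
    set a := α (w + e • p) k
    have e2 : (α w k - a) • (g •ᵥ w) = (algebraMap F K e * (a - α p k)) • (g •ᵥ p) := by
      rw [sub_smul, mul_smul, sub_smul, smul_sub, algebraMap_smul, algebraMap_smul, sub_eq_sub_iff_add_eq_add]
      rw [add_comm (a • _)] at e1
      exact e1.trans (by abel)
    by_cases h1 : α w k = a
    · rw [h1, sub_self, zero_smul] at e2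
      have := (smul_eq_zero.1 e2.symm).resolve_right (hne hp0)
      rw [mul_eq_zero, or_iff_right ((map_ne_zero _).2 he0), sub_eq_zero] at this
      rw [h1, this]
    · exfalso
      set c := algebraMap F K e * (a - α p k) / (α w k - a)
      have e3 : g •ᵥ w = c • (g •ᵥ p) := by
        rw [show c = (α w k - a)⁻¹ * (algebraMap F K e * (a - α p k)) from div_eq_inv_mul _ _, mul_smul, ← e2,
          inv_smul_smul₀ (sub_ne_zero.2 h1)]
      obtain ⟨c', hc'⟩ := hinj hp0 hpp c
      rw [← hc', ← hα p c' hpp] at e3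
      rw [hgi e3, hf_smul_left, hpp, mul_zero] at hl0
      exact hl0 rfl
  have mult : ∀ {w : Vec}, w ≠ 0 → hf D w w = 0 → ∀ a b : K, α w (a * b) = α w a * α w b := by
    intro w hw hww
    obtain ⟨p, hpp, hwp⟩ := exists_iso_partner D hw
    have hp0 : p ≠ 0 := fun h0 => by rw [h0, hf_zero_right] at hwp; exact zero_ne_one hwp
    have hαp : α w = α p := key hww hpp (hwp ▸ one_mem _) (by rw [hwp]; exact one_ne_zero)
    have hzero : ∀ {x : Vec}, x ≠ 0 → hf D x x = 0 → α x 0 = 0 := fun {x} hx hxx => by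
      have e1 := hα x 0 hxx
      rw [zero_smul, mulVec_zero] at e1
      exact (smul_eq_zero.1 e1.symm).resolve_right (hne hx)
    have hL : ∀ a : K, ∀ l ∈ fixL D, α w (a * l) = α w a * α w l := by
      intro a l hl
      by_cases hl0 : l = 0
      · subst hl0; rw [mul_zero, hzero hw hww, mul_zero]
      have hlp : hf D (l • p) (l • p) = 0 := by rw [hf_smul_left, hf_smul_right, hpp, mul_zero, mul_zero]
      have hw' : hf D w (l • p) = l := by rw [hf_smul_right, hwp, mul_one, (mem_fixL D).1 hl]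
      have hαlp : α w = α (l • p) := key hww hlp (by rw [hw']; exact hl) (by rw [hw']; exact hl0)
      refine hsm hp0 ?_
      rw [hαp, ← hα p (a * l) hpp, mul_smul, hα (l • p) a hlp, hα p l hpp, ← hαlp, hαp, smul_smul]
    obtain ⟨ω, hω⟩ := exists_moved_scalar D.hF
    have hadd : ∀ a b : K, α w (a + b) = α w a + α w b := fun a b => hsm hw (by
      rw [← hα w (a + b) hww, add_smul, mulVec_add, hα w a hww, hα w b hww, add_smul])
    have hF' : ∀ (s : F) (a : K), α w (algebraMap F K s * a) = algebraMap F K s * α w a := fun s a => hsm hw (by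
      rw [← hα w _ hww, mul_smul, mul_smul, algebraMap_smul, algebraMap_smul, mulVec_smul, hα w a hww])
    intro a b
    obtain ⟨l, hl, m, hm, rfl⟩ := exists_split D hω b
    rw [mul_add, hadd, hL a l hl, mul_left_comm a, hF', hL a m hm, hadd, hF', mul_add, mul_left_comm]
  have scl : ∀ {w : Vec}, w ≠ 0 → hf D w w = 0 → ∀ z : K, z ≠ 0 → α (z • w) = α w := by
    intro w hw hww z hz
    have hz' : hf D (z • w) (z • w) = 0 := by rw [hf_smul_left, hf_smul_right, hww, mul_zero, mul_zero]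
    funext k
    refine hsm (smul_ne_zero hz hw) ?_
    rw [← hα _ k hz', ← mul_smul, hα w _ hww, hα w z hww, mult hw hww, mul_smul]
  have pairs : ∀ {w p : Vec}, hf D w w = 0 → hf D p p = 0 → hf D w p ≠ 0 → α w = α p := by
    intro w p hww hpp hwp
    have hp0 : p ≠ 0 := fun h0 => hwp (by rw [h0, hf_zero_right])
    set z := D.τ (hf D w p)⁻¹
    have h1 : hf D w (z • p) = 1 := by rw [hf_smul_right, D.hττ, inv_mul_cancel₀ hwp]
    rw [key hww (p := z • p) (by rw [hf_smul_left, hf_smul_right, hpp, mul_zero, mul_zero]) (h1 ▸ one_mem _)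
      (by rw [h1]; exact one_ne_zero), scl hp0 hpp z (τ_ne_zero D (inv_ne_zero hwp))]
  obtain ⟨w₀, hw₀, hw₀w₀⟩ := exists_iso D
  intro k
  refine ⟨α w₀ k, fun x => ?_⟩
  have hall : ∀ v, hf D v v = 0 → g •ᵥ (k • v) = α w₀ k • (g •ᵥ v) := by
    intro v hvv
    by_cases hv : v = 0
    · subst hv; rw [smul_zero, mulVec_zero, smul_zero]
    obtain ⟨u, huu, h1, h2⟩ := exists_common D hw₀ hv
    rw [hα v k hvv, pairs hw₀w₀ huu h1, pairs hvv huu h2]
  obtain ⟨e', he', he'e', -⟩ : ∃ e', e' ≠ (0 : Vec) ∧ hf D e' e' = 0 ∧ True :=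
    ⟨w₀, hw₀, hw₀w₀, trivial⟩
  obtain ⟨f, hff, hef⟩ := exists_iso_partner D he'
  have hfe : hf D f e' = 1 := by rw [← hf_conj D, hef, map_one]
  -- the agreement set is closed under addition and contains all multiples of isotropic vectors
  have hadd : ∀ {a b : Vec}, g •ᵥ (k • a) = α w₀ k • (g •ᵥ a) → g •ᵥ (k • b) = α w₀ k • (g •ᵥ b) →
      g •ᵥ (k • (a + b)) = α w₀ k • (g •ᵥ (a + b)) := fun {a b} ha hb => by
    rw [smul_add, mulVec_add, ha, hb, mulVec_add, smul_add]
  have hsmi : ∀ (s : K) {v : Vec}, hf D v v = 0 → g •ᵥ (k • s • v) = α w₀ k • (g •ᵥ (s • v)) :=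
    fun s v hv => hall _ (by rw [hf_smul_left, hf_smul_right, hv, mul_zero, mul_zero])
  set γ := x - hf D x f • e' - hf D x e' • f with hγ
  have hγe : hf D γ e' = 0 := by simp [hγ, hf_sub_left, hf_smul_left, he'e', hfe]
  have hγf : hf D γ f = 0 := by simp [hγ, hf_sub_left, hf_smul_left, hff, hef]
  obtain ⟨β, hβ⟩ := exists_trace_hf D γ
  have h1 : hf D (γ + β • e' + f) (γ + β • e' + f) = 0 := by
    simp only [hf_add_left, hf_add_right, hf_smul_left, hf_smul_right, he'e', hef, hfe, hff, hγe, hγf,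
      (hf_eq_zero_comm D).1 hγe, (hf_eq_zero_comm D).1 hγf]
    linear_combination hβ
  rw [show x = (γ + β • e' + f) + (hf D x f - β) • e' + (hf D x e' - 1) • f by rw [hγ]; module]
  exact hadd (hadd (hall _ h1) (hsmi _ he'e')) (hsmi _ hff)

include D in
theorem exists_not_semilinear : ∃ g ∈ SUn, ¬ ∀ k : K, ∃ k' : K, ∀ x : Vec, g •ᵥ (k • x) = k' • (g •ᵥ x) := by
  obtain ⟨w, hw, hww⟩ := exists_iso D
  obtain ⟨p, hpp, hwp⟩ := exists_iso_partner D hw
  have hpw : hf D p w = 1 := by rw [← hf_conj D, hwp, map_one]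
  obtain ⟨e, he0, he⟩ := exists_skew D
  obtain ⟨g, hg, hgx⟩ := Unitary.exists_tv D.hF (v := w) (by rw [H_eq D, hww, map_zero]) he
  refine ⟨g, hg, fun hs => ?_⟩
  have key : ∀ k : K, algebraMap F K (e * D.χ k) = k * algebraMap F K (e * D.χ 1) := by
    intro k
    obtain ⟨k', hk'⟩ := hs k
    have e1 := hk' p
    rw [hgx, hgx, ← hf_spec D, hpw, mul_one, H_eq D, hpw, smul_add] at e1
    rw [← algebraMap_smul K (e * D.χ k) w, ← algebraMap_smul K (e * D.χ 1) w] at e1
    have e2 := congrArg (fun v => hf D v p) e1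
    have e3 := congrArg (fun v => hf D v w) e1
    simp only [hf_add_left, hf_smul_left, hpp, hpw, hwp, hww, mul_zero,
      add_zero, zero_add, mul_one] at e2 e3
    rw [← e3] at e2
    exact e2
  by_cases h1 : D.χ 1 = 0
  · refine D.hχ (LinearMap.ext fun k => ?_)
    have := key k
    rw [h1, mul_zero, map_zero, mul_zero, map_eq_zero] at this
    exact (mul_eq_zero.1 this).resolve_left he0
  · have hsc : ∀ k : K, k ∈ (Algebra.ofId F K).range := fun k => ⟨e * D.χ k / (e * D.χ 1), by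
      show algebraMap F K _ = k
      rw [map_div₀, key k, mul_div_assoc, div_self ((map_ne_zero _).2 (mul_ne_zero he0 h1)), mul_one]⟩
    have hb : (⊥ : Subalgebra F K) = ⊤ := top_unique fun k _ => by
      obtain ⟨s, hs⟩ := hsc k
      exact Algebra.mem_bot.2 ⟨s, hs⟩
    have := Subalgebra.bot_eq_top_iff_finrank_eq_one.1 hb
    have := three_le_finrank D
    omega

end Cfsg.Agent.Forms.Max.UnitExtField
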