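import Mathlib
import Cfsg.Agent.Lib.Forms.Max.UnitExtField.Lines

/-!
# From a non-semilinear element to one fixing a large part of an isotropic line
-/

set_option autoImplicit false
set_option linter.unusedSectionVars false

namespace Cfsg.Agent.Forms.Max.UnitExtField

open Matrix Cfsg.Agent.Classical.Unitary

variable {F : Type*} [Field F] [Fintype F] {q n : ℕ} {K : Type*} [Field K] [Algebra F K] [FiniteDimensional F K]
  [Module K (Fin n → F)] [IsScalarTower F K (Fin n → F)]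

local notation "Vec" => (Fin n → F)
local notation "GLn" => GL (Fin n) F
local notation "Mat" => Matrix (Fin n) (Fin n) F
local notation "H" => Cfsg.hermForm n F q
local notation "SUn" => (Cfsg.GU n F q ⊓ Cfsg.Geo.specialLinear (Fin n) F)
local notation:80 g " •ᵥ " x:81 => Matrix.mulVec (Units.val g) x

variable (D : Data F q n K)

/-- `k ↦ k w` -/
def lineMap (w : Fin n → F) : K →ₗ[F] (Fin n → F) := (LinearMap.toSpanSingleton K _ w).restrictScalars F

theorem lineMap_apply (w : Vec) (k : K) : lineMap w k = k • w := rfl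

theorem lineMap_inj {w : Vec} (hw : w ≠ 0) : Function.Injective (lineMap (K := K) w) := fun a b e => by
  by_contra h
  exact hw ((smul_eq_zero.1 ((sub_smul a b w).trans (sub_eq_zero.2 e))).resolve_left (sub_ne_zero.2 h))

/-- `k ↦ g (k w)` -/
noncomputable def gMap (g : GL (Fin n) F) (w : Fin n → F) : K →ₗ[F] (Fin n → F) :=
  (Matrix.mulVecLin (Units.val g)).comp (lineMap w)

theorem gMap_apply (g : GLn) (w : Vec) (k : K) : gMap g w k = g •ᵥ (k • w) := rfl

theorem gMap_inj (g : GLn) {w : Vec} (hw : w ≠ 0) : Function.Injective (gMap (K := K) g w) := fun _ _ e =>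
  lineMap_inj hw (Max.mulVec_inj g e)

/-- the part of the line of `w` sent by `g` into the line of `w'` -/
noncomputable def sect (g : GL (Fin n) F) (w w' : Fin n → F) : Submodule F K :=
  (LinearMap.range (lineMap (K := K) w')).comap (gMap g w)

theorem mem_sect {g : GLn} {w w' : Vec} {k : K} : k ∈ sect g w w' ↔ ∃ t : K, g •ᵥ (k • w) = t • w' :=
  ⟨fun ⟨t, ht⟩ => ⟨t, ht.symm⟩, fun ⟨t, ht⟩ => ⟨t, ht.symm⟩⟩

/-- the scalars of the line of `w'` reached by `g` -/
noncomputable def eSet (g : GL (Fin n) F) (w w' : Fin n → F) : Submodule F K :=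
  (LinearMap.range (gMap (K := K) g w)).comap (lineMap w')

theorem mem_eSet {g : GLn} {w w' : Vec} {t : K} : t ∈ eSet g w w' ↔ ∃ k : K, g •ᵥ (k • w) = t • w' := Iff.rfl

theorem finrank_eSet (g : GLn) {w w' : Vec} (hw : w ≠ 0) (hw' : w' ≠ 0) :
    Module.finrank F (eSet (K := K) g w w') = Module.finrank F (sect (K := K) g w w') := by
  rw [(Submodule.equivMapOfInjective _ (lineMap_inj (K := K) hw') (eSet g w w')).finrank_eq,
    (Submodule.equivMapOfInjective _ (gMap_inj (K := K) g hw) (sect g w w')).finrank_eq,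
    eSet, sect, Submodule.map_comap_eq, Submodule.map_comap_eq, inf_comm]

/-- `K` is spanned by its skew elements -/
theorem mem_of_skew {W : Submodule F K} (h : ∀ c : K, c + D.τ c = 0 → c ∈ W) (s : K) : s ∈ W := by
  obtain ⟨e, he0, he⟩ := exists_skew D
  obtain ⟨w, hw⟩ := exists_moved_scalar D.hF
  have hL : ∀ l ∈ fixL D, l ∈ W := fun l hl => by
    have hc : algebraMap F K e * l ∈ W := h _ (by
      rw [map_mul, τ_skew D he, (mem_fixL D).1 hl, neg_mul, add_neg_cancel])
    have := W.smul_mem e⁻¹ hc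
    rwa [Algebra.smul_def, ← mul_assoc, ← map_mul, inv_mul_cancel₀ he0, map_one, one_mul] at this
  obtain ⟨a, ha, b, hb, rfl⟩ := exists_split D hw s
  rw [← Algebra.smul_def]
  exact W.add_mem (hL a ha) (W.smul_mem _ (hL b hb))

/-- a functional killed on skew elements is killed -/
theorem eq_top_of_skew_mul {W : Submodule F K} {a : K} (ha : a ≠ 0)
    (h : ∀ c : K, c + D.τ c = 0 → c * a ∈ W) : W = ⊤ := by
  refine top_unique fun s _ => ?_
  have := mem_of_skew D (W := W.comap (LinearMap.mulRight F a)) h (s * a⁻¹)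
  simpa [Submodule.mem_comap, inv_mul_cancel_right₀ ha] using this

theorem hf_image_chi {g : GLn} (hg : g ∈ SUn) (x y : Vec) :
    D.χ (hf D (g •ᵥ x) (g •ᵥ y)) = D.χ (hf D x y) := by
  rw [← H_eq D, ← H_eq D, (Unitary.mem_SUn.1 hg).1]

/-- the image of an isotropic line contains an isotropic vector -/
theorem exists_iso_image {g : GLn} (hg : g ∈ SUn) {w : Vec} (hw : w ≠ 0) (hww : hf D w w = 0) :
    ∃ k : K, k ≠ 0 ∧ hf D (g •ᵥ (k • w)) (g •ᵥ (k • w)) = 0 := by
  classical
  haveI := finite_K D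
  haveI : Fintype K := Fintype.ofFinite K
  obtain ⟨ω, hω⟩ := exists_moved_scalar D.hF
  obtain ⟨b, hbL, h1b, hLb, hbi⟩ := exists_linearIndepOn_id_extension (K := F) (s := ({1} : Set K))
    (t := (fixL D : Set K)) ((linearIndepOn_singleton_iff F).2 one_ne_zero) (Set.singleton_subset_iff.2 (one_mem (fixL D)))
  have hspan : Submodule.span F b = ⊤ := top_unique fun z _ => by
    obtain ⟨u, hu, v, hv, rfl⟩ := exists_split D hω z
    rw [← Algebra.smul_def]
    exact Submodule.add_mem _ (hLb hu) (Submodule.smul_mem _ _ (hLb hv))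
  let B : Module.Basis b F K := Module.Basis.mk hbi (by rw [Set.range_comp']; simp [hspan])
  have hB : ∀ i : b, B i = (i : K) := fun i => by simp [B, Module.Basis.mk_apply]
  haveI : Fintype b := Fintype.ofFinite b
  have hcard : Fintype.card b = Module.finrank F K := (Module.finrank_eq_card_basis B).symm
  let J := {i : b // (i : K) ≠ 1}
  have hJ : Fintype.card J + 1 = Fintype.card b := by
    have h1 : Fintype.card {i : b // (i : K) = 1} = 1 :=
      Fintype.card_eq_one_iff.2 ⟨⟨⟨1, h1b rfl⟩, rfl⟩, fun y => Subtype.ext (Subtype.ext y.2)⟩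
    have := Fintype.card_subtype_compl (fun i : b => (i : K) = 1)
    have hle := Fintype.card_subtype_le (fun i : b => (i : K) = 1)
    show Fintype.card {i : b // ¬ (i : K) = 1} + 1 = _
    omega
  let cf : b × Fin 2 → K := fun p => (if p.2 = 0 then 1 else algebraMap F K ω) * (p.1 : K)
  let u : b × Fin 2 → Vec := fun p => g •ᵥ (cf p • w)
  have hsum : ∀ x : b × Fin 2 → F, g •ᵥ ((∑ p, x p • cf p) • w) = ∑ p, x p • u p := fun x => by
    rw [Finset.sum_smul, Matrix.mulVec_sum]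
    exact Finset.sum_congr rfl fun p _ => by rw [smul_assoc, mulVec_smul]
  have hval : ∀ (l : K) (x : b × Fin 2 → F), (∀ p, x p ^ q = x p) →
      ∑ p, ∑ p', D.χ (l * hf D (u p) (u p')) * (x p * x p') =
        D.χ (l * hf D (∑ p, x p • u p) (∑ p, x p • u p)) := by
    intro l x hx
    have hl : ∀ y, hf D (∑ p, x p • u p) y = ∑ p, x p • hf D (u p) y := fun y => by
      rw [← hl_apply, map_sum]
      exact Finset.sum_congr rfl fun p _ => by rw [hl_apply, hf_smul_left']
    have hr : ∀ y, hf D y (∑ p, x p • u p) = ∑ p, x p • hf D y (u p) := fun y => by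
      rw [← hf_conj D, hl, map_sum]
      exact Finset.sum_congr rfl fun p _ => by rw [τ_smul, hx p, hf_conj]
    rw [hl, Finset.mul_sum, map_sum]
    refine Finset.sum_congr rfl fun p _ => ?_
    rw [hr, Finset.smul_sum, Finset.mul_sum, map_sum]
    refine Finset.sum_congr rfl fun p' _ => ?_
    rw [smul_smul, mul_smul_comm, map_smul, smul_eq_mul, mul_comm]
  obtain ⟨x, hxq, hx0, hx⟩ := exists_common_zero D.hF (J := J) (ι := b × Fin 2)
    (by rw [Fintype.card_prod, Fintype.card_fin]; omega)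
    (fun j p p' => D.χ ((j.1 : K) * hf D (u p) (u p')))
    (fun j x hx => by
      rw [hval _ x hx]
      exact chi_real D (mul_mem (hbL j.1.2) (hf_self_mem D _)))
  refine ⟨∑ p, x p • cf p, fun h0 => hx0 ?_, ?_⟩
  · have e : ∑ i : b, (x (i, 0) + ω * x (i, 1)) • B i = 0 := by
      rw [← h0, Fintype.sum_prod_type]
      refine Finset.sum_congr rfl fun i _ => ?_
      rw [Fin.sum_univ_two, hB]
      simp [cf, Algebra.smul_def]
      ring
    have hz := Fintype.linearIndependent_iff.1 B.linearIndependent _ e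
    funext ⟨i, k⟩
    have h1 := hz i
    have h2 : x (i, 1) = 0 := by
      have e' := congrArg (HermStd.qHom D.hF) h1
      simp only [map_add, map_mul, map_zero, HermStd.qHom_apply, hxq] at e'
      have e'' : (ω - ω ^ q) * x (i, 1) = 0 := by linear_combination h1 - e'
      exact (mul_eq_zero.1 e'').resolve_left (sub_ne_zero.2 (Ne.symm hω))
    fin_cases k
    · simpa [h2] using h1
    · simpa using h2
  · set v := g •ᵥ ((∑ p, x p • cf p) • w) with hv
    have hvv : D.χ (hf D v v) = 0 := by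
      rw [hv, hf_image_chi D hg, hf_smul_left, hf_smul_right, hww, mul_zero, mul_zero, map_zero]
    refine chi_ext D fun k => ?_
    rw [mul_zero, map_zero]
    have hk : k ∈ Submodule.span F b := hspan ▸ Submodule.mem_top
    induction hk using Submodule.span_induction with
    | mem l hl =>
      by_cases h1 : l = 1
      · rw [h1, one_mul, hvv]
      · have e := hx ⟨⟨l, hl⟩, h1⟩
        rw [hval _ x hxq, ← hsum, ← hv] at e
        exact e
    | zero => rw [zero_mul, map_zero]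
    | add a c _ _ ha hc => rw [add_mul, map_add, ha, hc, add_zero]
    | smul s a _ ha => rw [smul_mul_assoc, map_smul, ha, smul_zero]

/-- an element sending part, not all, of an isotropic line into an isotropic line -/
structure IsPair (D : Data F q n K) (M : Subgroup (GL (Fin n) F)) (g : GL (Fin n) F) (w w' : Fin n → F) :
    Prop where
  mem : g ∈ M
  hw : w ≠ 0
  hww : hf D w w = 0
  hw' : w' ≠ 0
  hw'w' : hf D w' w' = 0
  ne_bot : sect (K := K) g w w' ≠ ⊥
  ne_top : sect (K := K) g w w' ≠ ⊤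

/-- the normal form -/
structure NF (D : Data F q n K) (M : Subgroup (GL (Fin n) F)) (g : GL (Fin n) F) (w : Fin n → F) : Prop where
  pair : IsPair D M g w w
  fix : ∀ k ∈ sect (K := K) g w w, g •ᵥ (k • w) = k • w
  maxl : ∀ h v v', IsPair D M h v v' →
    Module.finrank F (sect (K := K) h v v') ≤ Module.finrank F (sect (K := K) g w w)
  moved : ∃ k : K, hf D (g •ᵥ (k • w)) w ≠ 0

theorem exists_pair {M : Subgroup GLn} (hMK : M ≤ SUn) {g : GLn} (hgM : g ∈ M)
    (hg : ¬ ∀ k : K, ∃ k' : K, ∀ x : Vec, g •ᵥ (k • x) = k' • (g •ᵥ x)) :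
    ∃ w w', IsPair D M g w w' := by
  obtain ⟨w, hww, hmov⟩ : ∃ w : Vec, hf D w w = 0 ∧ ∃ k : K, ∀ k' : K, g •ᵥ (k • w) ≠ k' • (g •ᵥ w) := by
    by_contra hc
    push Not at hc
    exact hg (semilinear D hc)
  obtain ⟨k, hk⟩ := hmov
  have hw : w ≠ 0 := fun h => hk 0 (by rw [h, smul_zero, mulVec_zero, smul_zero])
  obtain ⟨k₁, hk₁, hiso⟩ := exists_iso_image D (hMK hgM) hw hww
  refine ⟨w, _, hgM, hw, hww, fun h => hk₁ ?_, hiso, fun h => hk₁ ?_, fun h => ?_⟩
  · exact (smul_eq_zero.1 (Max.mulVec_inj g (h.trans (mulVec_zero _).symm))).resolve_right hw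
  · exact (Submodule.mem_bot F).1 (h ▸ mem_sect.2 ⟨1, by rw [one_smul]⟩)
  · obtain ⟨s, hs⟩ := mem_sect.1 (h ▸ Submodule.mem_top : (1 : K) ∈ sect g w (g •ᵥ (k₁ • w)))
    obtain ⟨t, ht⟩ := mem_sect.1 (h ▸ Submodule.mem_top : k ∈ sect g w (g •ᵥ (k₁ • w)))
    rw [one_smul] at hs
    have hs0 : s ≠ 0 := fun h0 => hw (Max.mulVec_inj g (by rw [hs, h0, zero_smul, mulVec_zero]))
    refine hk (t / s) ?_
    rw [ht, hs, smul_smul, div_mul_cancel₀ _ hs0]

theorem exists_max_pair {M : Subgroup GLn} (h : ∃ g w w', IsPair D M g w w') :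
    ∃ g w w', IsPair D M g w w' ∧ ∀ h v v', IsPair D M h v v' →
      Module.finrank F (sect (K := K) h v v') ≤ Module.finrank F (sect (K := K) g w w') := by
  classical
  let P : ℕ → Prop := fun e => ∃ g w w', IsPair D M g w w' ∧ Module.finrank F (sect (K := K) g w w') = e
  obtain ⟨g, w, w', hp⟩ := h
  have hb : ∀ (g' : GLn) (v v' : Vec), Module.finrank F (sect (K := K) g' v v') ≤ Module.finrank F K :=
    fun g' v v' => Submodule.finrank_le _
  obtain ⟨g', v, v', hp', he⟩ := Nat.findGreatest_spec (P := P) (hb g w w') ⟨g, w, w', hp, rfl⟩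
  exact ⟨g', v, v', hp', fun h' x x' hx =>
    he ▸ Nat.le_findGreatest (hb h' x x') ⟨h', x, x', hx, rfl⟩⟩

/-- conjugating a root element back -/
theorem exists_conj {M : Subgroup GLn} (hM : LinM D M) {g : GLn} (hgM : g ∈ M) {u : Vec}
    (hu : hf D u u = 0) {c : K} (hc : c + D.τ c = 0) :
    ∃ h ∈ M, ∀ x, h •ᵥ x = x + g⁻¹ •ᵥ ((c * hf D (g •ᵥ x) u) • u) := by
  obtain ⟨ρ, hρ, hρx, hρK⟩ := exists_rt D hu hc
  refine ⟨g⁻¹ * ρ * g, mul_mem (mul_mem (inv_mem hgM) (hM ρ hρ hρK)) hgM, fun x => ?_⟩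
  rw [mulVec_mul_GL, mulVec_mul_GL, hρx, mulVec_add, Max.inv_mulVec_cancel]

/-- step B: the case of a vanishing functional -/
theorem stepB {M : Subgroup GLn} (hMK : M ≤ SUn) (hM : LinM D M) {g : GLn} {w w' : Vec}
    (hp : IsPair D M g w w') (hmax : ∀ h v v', IsPair D M h v v' →
      Module.finrank F (sect (K := K) h v v') ≤ Module.finrank F (sect (K := K) g w w'))
    (ha : ∀ k : K, hf D (g •ᵥ (k • w)) w' = 0) (h3 : Module.finrank K (Fin n → F) ≠ 3) :
    ∃ h v, NF D M h v := by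
  obtain ⟨hgM, hw, hww, hw', hw'w', hne, hnt⟩ := hp
  obtain ⟨k₁, hk₁⟩ : ∃ k₁, k₁ ∉ sect (K := K) g w w' := by
    by_contra hc
    push Not at hc
    exact hnt (top_unique fun k _ => hc k)
  set y := g •ᵥ (k₁ • w) with hy
  obtain ⟨p, hpp, hwp⟩ := exists_iso_partner D hw'
  have hyw : hf D y w' = 0 := ha k₁
  have hq0 : y - hf D y p • w' ≠ 0 := fun h => hk₁ (mem_sect.2 ⟨_, sub_eq_zero.1 h⟩)
  have hqQ : y - hf D y p • w' ∈ perp2 D w' p := by
    have := perp2_part D hw'w' hpp hwp y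
    rwa [hyw, zero_smul, sub_zero] at this
  have hQ2 : 2 ≤ Module.finrank K (perp2 D w' p) := by
    have h1 := finrank_perp2 D hw'w' hpp hwp
    haveI := finite_module D
    have h2 : 1 ≤ Module.finrank K (perp2 D w' p) :=
      Submodule.one_le_finrank_iff.2 ((Submodule.ne_bot_iff _).2 ⟨_, hqQ, hq0⟩)
    rcases D.hd with h | h | ⟨h, -⟩ <;> omega
  obtain ⟨u, huQ, huu, hqu⟩ := exists_iso_one D (perp2_nondeg D hw'w' hpp hwp) hQ2 hqQ hq0
  have hw'u : hf D w' u = 0 := (hf_eq_zero_comm D).1 ((mem_perp2 D).1 huQ).1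
  have hyu : hf D y u = 1 := by rwa [hf_sub_left, hf_smul_left, hw'u, mul_zero, sub_zero] at hqu
  obtain ⟨c, hc, hca⟩ : ∃ c : K, c + D.τ c = 0 ∧ hf D (g⁻¹ •ᵥ (c • u)) w ≠ 0 := by
    by_contra hcon
    push Not at hcon
    let Φ : Submodule F K :=
      { carrier := {s | hf D (g⁻¹ •ᵥ (s • u)) w = 0}
        add_mem' := fun {a b} ha' hb' => by
          simp only [Set.mem_ofPred_eq] at ha' hb' ⊢
          rw [add_smul, mulVec_add, hf_add_left, ha', hb', add_zero]
        zero_mem' := by simp only [Set.mem_ofPred_eq, zero_smul, mulVec_zero, hf_zero_left]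
        smul_mem' := fun s a ha' => by
          simp only [Set.mem_ofPred_eq] at ha' ⊢
          rw [smul_assoc, mulVec_smul, hf_smul_left', ha', smul_zero] }
    have hall : ∀ s : K, hf D (g⁻¹ •ᵥ (s • u)) w = 0 := mem_of_skew D (W := Φ) hcon
    refine D.hχ (LinearMap.ext fun s => ?_)
    have e := hf_image_chi D (inv_mem (hMK hgM)) y (D.τ s • u)
    rw [hf_smul_right, hyu, mul_one, D.hττ, hy, Max.inv_mulVec_cancel, hf_smul_left,
      (hf_eq_zero_comm D).1 (hall _), mul_zero, map_zero] at e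
    exact e.symm
  obtain ⟨h, hh, hhx⟩ := exists_conj D hM hgM huu hc
  have hfix : ∀ k ∈ sect (K := K) g w w', h •ᵥ (k • w) = k • w := fun k hk => by
    obtain ⟨t, ht⟩ := mem_sect.1 hk
    rw [hhx, ht, hf_smul_left, hw'u, mul_zero, mul_zero, zero_smul, mulVec_zero, add_zero]
  have hsub : sect (K := K) g w w' ≤ sect (K := K) h w w := fun k hk => mem_sect.2 ⟨k, hfix k hk⟩
  have hmoved : hf D (h •ᵥ (k₁ • w)) w ≠ 0 := by
    rw [hhx, ← hy, hyu, mul_one, hf_add_left, hf_smul_left, hww, mul_zero, zero_add]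
    exact hca
  have hp2 : IsPair D M h w w := by
    refine ⟨hh, hw, hww, hw, hww, fun e => hne (le_bot_iff.1 (e ▸ hsub)), fun e => hmoved ?_⟩
    obtain ⟨t, ht⟩ := mem_sect.1 (e ▸ Submodule.mem_top : k₁ ∈ sect h w w)
    rw [ht, hf_smul_left, hww, mul_zero]
  have heq : sect (K := K) g w w' = sect h w w := Submodule.eq_of_le_of_finrank_le hsub (hmax _ _ _ hp2)
  exact ⟨h, w, hp2, fun k hk => hfix k (heq.symm ▸ hk), heq ▸ hmax, k₁, hmoved⟩

/-- step A: pass to a single line -/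
theorem stepA {M : Subgroup GLn} (hMK : M ≤ SUn) (hM : LinM D M) {g : GLn} {w w' : Vec}
    (hp : IsPair D M g w w') (hmax : ∀ h v v', IsPair D M h v v' →
      Module.finrank F (sect (K := K) h v v') ≤ Module.finrank F (sect (K := K) g w w')) {k₁ : K}
    (ha : hf D (g •ᵥ (k₁ • w)) w' ≠ 0) :
    ∃ h, IsPair D M h w w ∧ (∀ k ∈ sect (K := K) h w w, h •ᵥ (k • w) = k • w) ∧
      ∀ h' v v', IsPair D M h' v v' →
        Module.finrank F (sect (K := K) h' v v') ≤ Module.finrank F (sect (K := K) h w w) := by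
  obtain ⟨hgM, hw, hww, hw', hw'w', hne, hnt⟩ := hp
  have hE : eSet (K := K) g w w' ≠ ⊤ := fun e => hnt (Submodule.eq_top_of_finrank_eq (by
    rw [← finrank_eSet g hw hw', e, finrank_top]))
  obtain ⟨c, hc, hcE⟩ : ∃ c : K, c + D.τ c = 0 ∧ c * hf D (g •ᵥ (k₁ • w)) w' ∉ eSet (K := K) g w w' := by
    by_contra hcon
    push Not at hcon
    exact hE (eq_top_of_skew_mul D ha hcon)
  obtain ⟨h, hh, hhx⟩ := exists_conj D hM hgM hw'w' hc
  have hk₁ : k₁ ∉ sect (K := K) h w w := fun hk => hcE (mem_eSet.2 (by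
    obtain ⟨t, ht⟩ := mem_sect.1 hk
    refine ⟨t - k₁, ?_⟩
    rw [hhx] at ht
    rw [sub_smul, ← eq_sub_of_add_eq' ht, Max.mulVec_inv_cancel]))
  have hfix : ∀ k ∈ sect (K := K) g w w', h •ᵥ (k • w) = k • w := fun k hk => by
    obtain ⟨t, ht⟩ := mem_sect.1 hk
    rw [hhx, ht, hf_smul_left, hw'w', mul_zero, mul_zero, zero_smul, mulVec_zero, add_zero]
  have hsub : sect (K := K) g w w' ≤ sect (K := K) h w w := fun k hk => mem_sect.2 ⟨k, hfix k hk⟩
  have hp2 : IsPair D M h w w :=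
    ⟨hh, hw, hww, hw, hww, fun e => hne (le_bot_iff.1 (e ▸ hsub)), fun e => hk₁ (e ▸ Submodule.mem_top)⟩
  have heq : sect (K := K) g w w' = sect h w w := Submodule.eq_of_le_of_finrank_le hsub (hmax _ _ _ hp2)
  exact ⟨h, hp2, fun k hk => hfix k (heq.symm ▸ hk), heq ▸ hmax⟩

theorem exists_NF {M : Subgroup GLn} (hMK : M ≤ SUn) (hM : LinM D M) {g : GLn} (hgM : g ∈ M)
    (hg : ¬ ∀ k : K, ∃ k' : K, ∀ x : Vec, g •ᵥ (k • x) = k' • (g •ᵥ x)) :
    (∃ h v, NF D M h v) ∨ ∃ h v v', IsPair D M h v v' ∧ (∀ h' u u', IsPair D M h' u u' →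
      Module.finrank F (sect (K := K) h' u u') ≤ Module.finrank F (sect (K := K) h v v')) ∧
      (∀ k : K, hf D (h •ᵥ (k • v)) v' = 0) ∧ Module.finrank K (Fin n → F) = 3 := by
  obtain ⟨w₀, w₀', h₀⟩ := exists_pair D hMK hgM hg
  obtain ⟨g', w, w', hp, hmax⟩ := exists_max_pair D ⟨g, w₀, w₀', h₀⟩
  by_cases ha : ∀ k : K, hf D (g' •ᵥ (k • w)) w' = 0
  · by_cases h3 : Module.finrank K (Fin n → F) = 3
    · exact Or.inr ⟨g', w, w', hp, hmax, ha, h3⟩
    exact Or.inl (stepB D hMK hM hp hmax ha h3)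
  push Not at ha
  obtain ⟨k₁, hk₁⟩ := ha
  obtain ⟨h, hp2, hfix, hmax2⟩ := stepA D hMK hM hp hmax hk₁
  by_cases ha2 : ∀ k : K, hf D (h •ᵥ (k • w)) w = 0
  · by_cases h3 : Module.finrank K (Fin n → F) = 3
    · exact Or.inr ⟨h, w, w, hp2, hmax2, ha2, h3⟩
    exact Or.inl (stepB D hMK hM hp2 hmax2 ha2 h3)
  push Not at ha2
  exact Or.inl ⟨h, w, hp2, hfix, hmax2, ha2⟩

end Cfsg.Agent.Forms.Max.UnitExtField
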