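import Mathlib
import Cfsg.Agent.Lib.Forms.Max.UnitExtField.Normal

/-!
# The fixed part of the normal form is a hyperplane
-/

set_option autoImplicit false
set_option linter.unusedSectionVars false

namespace Cfsg.Agent.Forms.Max.UnitExtField

open Matrix Cfsg.Agent.Classical.Unitary

variable {F : Type*} [Field F] [Fintype F] {q n : ℕ} {K : Type*} [Field K] [Algebra F K] [FiniteDimensional F K]
  [Module K (Fin n → F)] [IsScalarTower F K (Fin n → F)]

local notation "Vec" => (Fin n → F)
local notation "GLn" => GL (Fin n) F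
local notation "Mat" => Matrix (Fin n) (Fin n) F
local notation "H" => Cfsg.hermForm n F q
local notation "SUn" => (Cfsg.GU n F q ⊓ Cfsg.Geo.specialLinear (Fin n) F)
local notation:80 g " •ᵥ " x:81 => Matrix.mulVec (Units.val g) x

variable (D : Data F q n K)

/-- orthogonal of a subspace for `(k, l) ↦ χ (k l)` -/
noncomputable def orth (W : Submodule F K) : Submodule F K :=
  W.dualAnnihilator.comap (dual D).toLinearMap

theorem mem_orth {W : Submodule F K} {k : K} : k ∈ orth D W ↔ ∀ x ∈ W, D.χ (k * x) = 0 := by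
  rw [orth, Submodule.mem_comap, Submodule.mem_dualAnnihilator]
  rfl

theorem finrank_orth (W : Submodule F K) :
    Module.finrank F (orth D W) + Module.finrank F W = Module.finrank F K := by
  have h := Subspace.finrank_add_finrank_dualAnnihilator_eq W
  have e : Module.finrank F (orth D W) = Module.finrank F W.dualAnnihilator := by
    rw [orth, Submodule.comap_equiv_eq_map_symm, LinearEquiv.finrank_map_eq]
  omega

/-- the image under the adjoint -/
def τSub (W : Submodule F K) : Submodule F K where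
  carrier := {x | D.τ x ∈ W}
  add_mem' := fun {a b} ha hb => by
    show D.τ (a + b) ∈ W
    rw [map_add]
    exact W.add_mem ha hb
  zero_mem' := by
    show D.τ 0 ∈ W
    rw [map_zero]
    exact W.zero_mem
  smul_mem' := fun s a ha => by
    show D.τ (s • a) ∈ W
    rw [τ_smul]
    exact W.smul_mem _ ha

theorem mem_τSub {W : Submodule F K} {x : K} : x ∈ τSub D W ↔ D.τ x ∈ W := Iff.rfl

theorem finrank_τSub (W : Submodule F K) : Module.finrank F (τSub D W) = Module.finrank F W := by
  haveI := finite_K D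
  let e : τSub D W ≃ W :=
    { toFun := fun x => ⟨D.τ x.1, x.2⟩
      invFun := fun x => ⟨D.τ x.1, by rw [mem_τSub, D.hττ]; exact x.2⟩
      left_inv := fun x => Subtype.ext (D.hττ _)
      right_inv := fun x => Subtype.ext (D.hττ _) }
  have h := Nat.card_congr e
  rw [Module.natCard_eq_pow_finrank (K := F) (V := τSub D W), Module.natCard_eq_pow_finrank (K := F) (V := W),
    Nat.card_eq_fintype_card] at h
  exact Nat.pow_right_injective Fintype.one_lt_card h

include D in
theorem subalgebra_top {S : Subalgebra F K} {x : K} (hx : x ∈ S) (hxF : ∀ s : F, algebraMap F K s ≠ x) :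
    S = ⊤ := by
  haveI := Subalgebra.isSimpleOrder_of_finrank_prime F K D.hr
  refine (IsSimpleOrder.eq_bot_or_eq_top S).resolve_left fun h => ?_
  rw [h, Algebra.mem_bot] at hx
  obtain ⟨s, hs⟩ := hx
  exact hxF s hs

/-- the functional attached to the normal form -/
noncomputable def aMap (g : GL (Fin n) F) (w : Fin n → F) : K →ₗ[F] K :=
  ((hl D w).restrictScalars F).comp (gMap g w)

theorem aMap_apply (g : GLn) (w : Vec) (k : K) : aMap D g w k = hf D (g •ᵥ (k • w)) w := rfl

variable {M : Subgroup (GL (Fin n) F)} {g : GL (Fin n) F} {w : Fin n → F}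

theorem aMap_fix (hN : NF D M g w) {k : K} (hk : k ∈ sect (K := K) g w w) : aMap D g w k = 0 := by
  rw [aMap_apply, hN.fix k hk, hf_smul_left, hN.pair.hww, mul_zero]

/-- by maximality, the moved part is all or nothing -/
theorem absorb (hN : NF D M g w) (hM : LinM D M) {c : K} (hc : c + D.τ c = 0) {k : K}
    (hk : k ∉ sect (K := K) g w w) (hck : c * aMap D g w k ∈ sect (K := K) g w w) (k' : K) :
    c * aMap D g w k' ∈ sect (K := K) g w w := by
  obtain ⟨h, hh, hhx⟩ := exists_conj D hM hN.pair.mem hN.pair.hww hc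
  set S := sect (K := K) g w w
  have hin : ∀ k₀, c * aMap D g w k₀ ∈ S → k₀ ∈ sect (K := K) h w w := fun k₀ hk₀ => mem_sect.2
    ⟨k₀ + c * aMap D g w k₀, by
      rw [hhx, ← aMap_apply, add_smul]
      nth_rw 1 [← hN.fix _ hk₀]
      rw [Max.inv_mulVec_cancel]⟩
  have hout : ∀ k₀ ∈ sect (K := K) h w w, c * aMap D g w k₀ ∈ S := fun k₀ hk₀ => by
    obtain ⟨t, ht⟩ := mem_sect.1 hk₀
    rw [hhx, ← aMap_apply] at ht
    have e : g •ᵥ ((t - k₀) • w) = (c * aMap D g w k₀) • w := by
      rw [sub_smul, ← eq_sub_of_add_eq' ht, Max.mulVec_inv_cancel]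
    have ht' : t - k₀ ∈ S := mem_sect.2 ⟨_, e⟩
    rw [hN.fix _ ht'] at e
    exact lineMap_inj hN.pair.hw (show lineMap w (t - k₀) = lineMap w (c * aMap D g w k₀) from e) ▸ ht'
  by_contra hk'
  have hsub : S ≤ sect (K := K) h w w := fun k₀ hk₀ => hin k₀ (by rw [aMap_fix D hN hk₀, mul_zero]; exact S.zero_mem)
  have hp : IsPair D M h w w := ⟨hh, hN.pair.hw, hN.pair.hww, hN.pair.hw, hN.pair.hww,
    fun e => hN.pair.ne_bot (le_bot_iff.1 (e ▸ hsub)), fun e => hk' (hout k' (e ▸ Submodule.mem_top))⟩
  exact hk ((Submodule.eq_of_le_of_finrank_le hsub (hN.maxl _ _ _ hp)).symm ▸ hin k hck)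

theorem ker_aMap (hN : NF D M g w) (hM : LinM D M) : LinearMap.ker (aMap D g w) = sect (K := K) g w w := by
  refine le_antisymm (fun k hk => ?_) fun k hk => aMap_fix D hN hk
  by_contra hkS
  obtain ⟨k₁, hk₁⟩ := hN.moved
  refine hN.pair.ne_top (eq_top_of_skew_mul D hk₁ fun c hc => absorb D hN hM hc hkS ?_ k₁)
  rw [LinearMap.mem_ker.1 hk, mul_zero]
  exact Submodule.zero_mem _

/-- the fixed part is the orthogonal of the conjugate image -/
theorem sect_eq_orth (hN : NF D M g w) (hM : LinM D M) (hMK : M ≤ SUn) :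
    sect (K := K) g w w = orth D (τSub D (LinearMap.range (aMap D g w))) := by
  refine Submodule.eq_of_le_of_finrank_eq (fun t ht => (mem_orth D).2 fun x hx => ?_) ?_
  · obtain ⟨k, hk⟩ := (mem_τSub D).1 hx
    have hx' : x = D.τ (aMap D g w k) := by rw [hk, D.hττ]
    have e := hf_image_chi D (hMK hN.pair.mem) (t • w) (k • w)
    rw [hN.fix t ht, hf_smul_left D t w, ← hf_conj D _ w, ← aMap_apply, ← hx', hf_smul_left,
      hf_smul_right, hN.pair.hww, mul_zero, mul_zero, map_zero] at e
    exact e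
  · have h1 := finrank_orth D (τSub D (LinearMap.range (aMap D g w)))
    have h2 := LinearMap.finrank_range_add_finrank_ker (aMap D g w)
    rw [ker_aMap D hN hM] at h2
    rw [finrank_τSub] at h1
    omega

/-- the moved part is one-dimensional -/
theorem range_line (hN : NF D M g w) (hM : LinM D M) (hMK : M ≤ SUn) :
    Module.finrank F (LinearMap.range (aMap D g w)) = 1 := by
  classical
  haveI := finite_K D
  set A := LinearMap.range (aMap D g w) with hA
  set B : Submodule F K := A * τSub D A with hB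
  obtain ⟨k₁, hk₁⟩ := hN.moved
  have hy1 : aMap D g w k₁ ∈ A := LinearMap.mem_range_self _ _
  have hy0 : aMap D g w k₁ ≠ 0 := hk₁
  have hApos : 0 < Module.finrank F A :=
    Submodule.one_le_finrank_iff.2 ((Submodule.ne_bot_iff _).2 ⟨_, hy1, hy0⟩)
  -- the products span a space no bigger than the image
  have hdim : Module.finrank F B ≤ Module.finrank F A := by
    by_contra hlt
    push Not at hlt
    let bA := Module.finBasis F A
    let Φ : K →ₗ[F] Module.Dual F B := (B.subtype.dualMap).comp (dual D).toLinearMap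
    have hΦ : ∀ k (x : B), Φ k x = D.χ (k * x) := fun k x => rfl
    have hΦs : Function.Surjective Φ :=
      (LinearMap.dualMap_surjective_of_injective B.injective_subtype).comp (dual D).surjective
    obtain ⟨b, hbt, -, htb, hbi⟩ := exists_linearIndepOn_id_extension (K := F) (s := (∅ : Set (Module.Dual F B)))
      (t := Φ '' (fixL D : Set K)) (linearIndepOn_empty F id) (Set.empty_subset _)
    have hspan : Submodule.span F b = ⊤ := top_unique fun z _ => by
      obtain ⟨k, rfl⟩ := hΦs z
      obtain ⟨ω, hω⟩ := exists_moved_scalar D.hF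
      obtain ⟨u, hu, v, hv, rfl⟩ := exists_split D hω k
      rw [← Algebra.smul_def, map_add, map_smul]
      exact Submodule.add_mem _ (htb ⟨u, hu, rfl⟩) (Submodule.smul_mem _ _ (htb ⟨v, hv, rfl⟩))
    let bB : Module.Basis b F (Module.Dual F B) := Module.Basis.mk hbi (by rw [Set.range_comp']; simp [hspan])
    haveI : Finite (Module.Dual F B) := Module.finite_of_finite F
    haveI : Fintype b := Fintype.ofFinite b
    have hm : Fintype.card b = Module.finrank F B := by
      rw [← Subspace.dual_finrank_eq, Module.finrank_eq_card_basis bB]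
    let e : Fin (Module.finrank F B) ≃ b := (Fintype.equivFinOfCardEq hm).symm
    choose l hlL hlΦ using fun i => hbt (e i).2
    let N : Fin (Module.finrank F B) → Matrix (Fin (Module.finrank F A)) (Fin (Module.finrank F A)) F :=
      fun k => Matrix.of fun i j => D.χ (l k * ((bA i : K) * D.τ (bA j : K)))
    obtain ⟨x, hxq, hx0, hdet⟩ := exists_singular D.hF hApos hlt N fun k i j => by
      show D.χ _ ^ q = D.χ _
      rw [← D.hχτ, map_mul D.τ, map_mul D.τ, D.hττ, (mem_fixL D).1 (hlL k), mul_comm (D.τ _) (bA j : K)]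
    obtain ⟨z, hz⟩ : ∃ z : K, z = ∑ k, x k • l k := ⟨_, rfl⟩
    have hzL : z ∈ fixL D := hz ▸ sum_mem fun k _ => by
      rw [Algebra.smul_def]
      exact mul_mem (alg_mem_fixL D (hxq k)) (hlL k)
    obtain ⟨v, hv0, hv⟩ := Matrix.exists_mulVec_eq_zero_iff.2 hdet
    set x₀ : K := ∑ j, (v j) ^ q • (bA j : K) with hx₀
    have hx₀A : x₀ ∈ A := sum_mem fun j _ => A.smul_mem _ (bA j).2
    have hx₀0 : x₀ ≠ 0 := fun h0 => by
      refine hv0 (funext fun j => ?_)
      have := Fintype.linearIndependent_iff.1 bA.linearIndependent (fun j => v j ^ q)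
        (Subtype.ext (by rw [Submodule.coe_sum]; simpa using h0)) j
      exact eq_zero_of_pow_eq_zero this
    have hrow : ∀ i, D.χ (z * ((bA i : K) * D.τ x₀)) = 0 := fun i => by
      have h1 := congrFun hv i
      rw [Matrix.sum_mulVec, Finset.sum_apply] at h1
      rw [hz, Finset.sum_mul, map_sum]
      refine Eq.trans (Finset.sum_congr rfl fun k _ => ?_) h1
      rw [smul_mulVec, Pi.smul_apply, smul_eq_mul, smul_mul_assoc, map_smul, smul_eq_mul]
      congr 1
      rw [hx₀, map_sum, Finset.mul_sum, Finset.mul_sum, map_sum]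
      refine Finset.sum_congr rfl fun j _ => ?_
      rw [τ_smul, pow_qq D.hF, mul_smul_comm, mul_smul_comm, map_smul, smul_eq_mul, mul_comm]
      rfl
    have hrow' : ∀ y ∈ A, D.χ (z * (y * D.τ x₀)) = 0 := fun y hy => by
      rw [show y = ((⟨y, hy⟩ : A) : K) from rfl, ← bA.sum_repr ⟨y, hy⟩, Submodule.coe_sum, Finset.sum_mul,
        Finset.mul_sum, map_sum]
      refine Finset.sum_eq_zero fun i _ => ?_
      rw [Submodule.coe_smul, smul_mul_assoc, mul_smul_comm, map_smul, hrow, smul_zero]
    obtain ⟨ε, hε0, hε⟩ := exists_skew D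
    have hc : algebraMap F K ε * z + D.τ (algebraMap F K ε * z) = 0 := by
      rw [map_mul, τ_skew D hε, (mem_fixL D).1 hzL, neg_mul, add_neg_cancel]
    obtain ⟨k₀, hk₀⟩ := hx₀A
    have hkS : k₀ ∉ sect (K := K) g w w := fun h => hx₀0 (hk₀ ▸ aMap_fix D hN h)
    have hmem : algebraMap F K ε * z * aMap D g w k₀ ∈ sect (K := K) g w w := by
      rw [sect_eq_orth D hN hM hMK, mem_orth, hk₀]
      intro y hy
      rw [mul_assoc, mul_assoc, ← Algebra.smul_def, map_smul, smul_eq_mul, mul_eq_zero]
      right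
      have h2 := hrow' (D.τ y) ((mem_τSub D).1 hy)
      have e2 : z * (D.τ y * D.τ x₀) = D.τ (z * (x₀ * y)) := by
        rw [map_mul, map_mul, (mem_fixL D).1 hzL, mul_comm (D.τ x₀)]
      rw [e2, D.hχτ] at h2
      exact eq_zero_of_pow_eq_zero h2
    have hall : ∀ b' ∈ B, D.χ (z * b') = 0 := by
      intro b' hb'
      refine Submodule.mul_induction_on hb' (fun y hy y' hy' => ?_) fun y y' hy hy' => by
        rw [mul_add, map_add, hy, hy', add_zero]
      obtain ⟨k, hk⟩ := hy
      have h1 := absorb D hN hM hc hkS hmem k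
      rw [sect_eq_orth D hN hM hMK, mem_orth] at h1
      have h2 := h1 y' hy'
      rw [hk, mul_assoc, mul_assoc, ← Algebra.smul_def, map_smul, smul_eq_mul, mul_eq_zero] at h2
      exact h2.resolve_left hε0
    refine hx0 (funext fun k => ?_)
    have hzero : ∑ k, x k • bB (e k) = 0 := by
      have e1 : ∀ k, bB (e k) = Φ (l k) := fun k => by
        simp [bB, Module.Basis.mk_apply, hlΦ k]
      simp_rw [e1, ← map_smul, ← map_sum]
      rw [← hz]
      exact LinearMap.ext fun b' => by rw [hΦ, LinearMap.zero_apply]; exact hall _ b'.2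
    exact Fintype.linearIndependent_iff.1 (bB.linearIndependent.comp e e.injective) x hzero k
  -- hence the ratios stabilise the image
  have heq : ∀ y ∈ A, y ≠ 0 → A.map (LinearMap.mulRight F (D.τ y)) = B := fun y hy hy' => by
    refine Submodule.eq_of_le_of_finrank_le ?_ ?_
    · rintro _ ⟨x, hx, rfl⟩
      exact Submodule.mul_mem_mul hx ((mem_τSub D).2 (by rwa [D.hττ]))
    · rw [← (Submodule.equivMapOfInjective _ (fun a b e => mul_right_cancel₀ (τ_ne_zero D hy') e : Function.Injective (LinearMap.mulRight F (D.τ y))) A).finrank_eq]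
      exact hdim
  have hAtop : A ≠ ⊤ := fun h => by
    have h1 := LinearMap.finrank_range_add_finrank_ker (aMap D g w)
    rw [ker_aMap D hN hM, ← hA, h, finrank_top] at h1
    exact hN.pair.ne_bot (Submodule.finrank_eq_zero.1 (by omega))
  let St : Subalgebra F K :=
    { carrier := {k | ∀ x ∈ A, x * k ∈ A}
      mul_mem' := fun {a b} ha hb x hx => by rw [← mul_assoc]; exact hb _ (ha x hx)
      add_mem' := fun {a b} ha hb x hx => by rw [mul_add]; exact A.add_mem (ha x hx) (hb x hx)
      algebraMap_mem' := fun s x hx => by rw [mul_comm, ← Algebra.smul_def]; exact A.smul_mem _ hx }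
  have hline : A = Submodule.span F {aMap D g w k₁} := by
    refine le_antisymm (fun y hy => ?_) (by rw [Submodule.span_le, Set.singleton_subset_iff]; exact hy1)
    by_cases hy' : y = 0
    · rw [hy']; exact Submodule.zero_mem _
    set y₀ := aMap D g w k₁
    have hτ0 := τ_ne_zero D hy0
    have hρ : D.τ y / D.τ y₀ ∈ St := fun x hx => by
      have h1 : x * D.τ y ∈ A.map (LinearMap.mulRight F (D.τ y₀)) := by
        rw [heq y₀ hy1 hy0, ← heq y hy hy']
        exact ⟨x, hx, rfl⟩
      obtain ⟨x', hx', he⟩ := h1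
      rw [LinearMap.mulRight_apply] at he
      rw [← mul_div_assoc, ← he, mul_div_assoc, div_self hτ0, mul_one]
      exact hx'
    by_contra hyy
    refine hAtop (top_unique fun z _ => ?_)
    have htop := subalgebra_top D hρ fun s hs => hyy (Submodule.mem_span_singleton.2 ⟨s ^ q, ?_⟩)
    · have := (show y₀⁻¹ * z ∈ St from htop ▸ Algebra.mem_top) y₀ hy1
      rwa [mul_inv_cancel_left₀ hy0] at this
    · have e := congrArg D.τ (((eq_div_iff hτ0).1 hs).symm)
      rw [D.hττ, map_mul, D.hτF, D.hττ] at e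
      rw [Algebra.smul_def, e]
  show Module.finrank F A = 1
  rw [hline, finrank_span_singleton hy0]

/-- the shape of the normal form on the line -/
theorem exists_shape (hN : NF D M g w) (hM : LinM D M) (hMK : M ≤ SUn) :
    ∃ (a : K) (f : F) (v₀ : Vec), a ≠ 0 ∧ f ≠ 0 ∧ hf D v₀ w = f • a ∧
      ∀ k : K, g •ᵥ (k • w) = k • w + D.χ (k * D.τ a) • v₀ := by
  obtain ⟨⟨a, ha⟩, -, hspan⟩ := finrank_eq_one_iff'.1 (range_line D hN hM hMK)
  have hA : ∀ y ∈ LinearMap.range (aMap D g w), ∃ s : F, s • a = y := fun y hy => by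
    obtain ⟨s, hs⟩ := hspan ⟨y, hy⟩
    exact ⟨s, congrArg Subtype.val hs⟩
  have ha0 : a ≠ 0 := fun h => by
    obtain ⟨k, hk⟩ := hN.moved
    obtain ⟨s, hs⟩ := hA (aMap D g w k) (LinearMap.mem_range_self _ k)
    exact hk (by rw [← aMap_apply, ← hs, h, smul_zero])
  have hS : ∀ t : K, D.χ (t * D.τ a) = 0 → t ∈ sect (K := K) g w w := fun t ht => by
    rw [sect_eq_orth D hN hM hMK, mem_orth]
    intro x hx
    obtain ⟨s, hs⟩ := hA _ ((mem_τSub D).1 hx)
    rw [show x = D.τ (s • a) by rw [hs, D.hττ], τ_smul, mul_smul_comm, map_smul, ht, smul_zero]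
  obtain ⟨k₂, hk₂⟩ := exists_chi D (τ_ne_zero D ha0) 1
  set v₀ : Vec := g •ᵥ (k₂ • w) - k₂ • w with hv₀
  have hshape : ∀ k : K, g •ᵥ (k • w) = k • w + D.χ (k * D.τ a) • v₀ := fun k => by
    have ht : D.χ ((k - D.χ (k * D.τ a) • k₂) * D.τ a) = 0 := by
      rw [sub_mul, smul_mul_assoc, map_sub, map_smul, hk₂, smul_eq_mul, mul_one, sub_self]
    have e := hN.fix _ (hS _ ht)
    rw [sub_smul, mulVec_sub, smul_assoc, mulVec_smul] at e
    rw [hv₀, smul_sub]
    linear_combination (norm := module) e
  obtain ⟨f, hf'⟩ := hA (aMap D g w k₂) (LinearMap.mem_range_self _ k₂)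
  have hv : hf D v₀ w = f • a := by
    rw [hv₀, hf_sub_left, hf_smul_left, hN.pair.hww, mul_zero, sub_zero, ← aMap_apply, hf']
  refine ⟨a, f, v₀, ha0, fun h0 => ?_, hv, hshape⟩
  obtain ⟨k, hk⟩ := hN.moved
  refine hk ?_
  rw [hshape, hf_add_left, hf_smul_left, hN.pair.hww, mul_zero, zero_add, hf_smul_left', hv, h0, zero_smul,
    smul_zero]

end Cfsg.Agent.Forms.Max.UnitExtField
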