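import Mathlib
import Cfsg.Agent.Lib.Forms.Max.UnitExtField.Shape

/-!
# The maps occurring on an isotropic line
-/

set_option autoImplicit false
set_option linter.unusedSectionVars false

namespace Cfsg.Agent.Forms.Max.UnitExtField

open Matrix Cfsg.Agent.Classical.Unitary

variable {F : Type*} [Field F] [Fintype F] {q n : ℕ} {K : Type*} [Field K] [Algebra F K] [FiniteDimensional F K]
  [Module K (Fin n → F)] [IsScalarTower F K (Fin n → F)]

local notation "Vec" => (Fin n → F)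
local notation "GLn" => GL (Fin n) F
local notation "Mat" => Matrix (Fin n) (Fin n) F
local notation "H" => Cfsg.hermForm n F q
local notation "SUn" => (Cfsg.GU n F q ⊓ Cfsg.Geo.specialLinear (Fin n) F)
local notation:80 g " •ᵥ " x:81 => Matrix.mulVec (Units.val g) x

variable (D : Data F q n K)

/-- the alternating family of maps -/
noncomputable def rMap (x y : K) : K → K := fun b => D.χ (b * D.τ y) • x - D.χ (b * D.τ x) • y

theorem rMap_apply (x y b : K) : rMap D x y b = D.χ (b * D.τ y) • x - D.χ (b * D.τ x) • y := rfl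

theorem rMap_add_left (x x' y : K) : rMap D (x + x') y = rMap D x y + rMap D x' y := by
  funext b
  simp only [Pi.add_apply, rMap_apply, map_add, mul_add, smul_add, add_smul]
  abel

theorem rMap_add_right (x y y' : K) : rMap D x (y + y') = rMap D x y + rMap D x y' := by
  funext b
  simp only [Pi.add_apply, rMap_apply, map_add, mul_add, smul_add, add_smul]
  abel

theorem rMap_swap (x y : K) : rMap D y x = - rMap D x y := by
  funext b
  simp only [Pi.neg_apply, rMap_apply]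
  abel

theorem rMap_smul (s : F) (x y : K) : rMap D (s • x) y = rMap D x ((s ^ q) • y) := by
  funext b
  simp only [rMap_apply, τ_smul, pow_qq D.hF, mul_smul_comm, map_smul, smul_eq_mul]
  module

/-- the maps `f` with `x ↦ x + f (hf x w) w` in the group -/
noncomputable def uGrp (M : Subgroup (GL (Fin n) F)) {w : Fin n → F} (hww : hf D w w = 0) :
    AddSubgroup (K → K) where
  carrier := {f | ∃ m ∈ M, ∀ x, (m : Matrix (Fin n) (Fin n) F) *ᵥ x = x + f (hf D x w) • w}
  zero_mem' := ⟨1, one_mem M, fun x => by simp⟩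
  add_mem' := by
    rintro f₁ f₂ ⟨m₁, hm₁, e₁⟩ ⟨m₂, hm₂, e₂⟩
    refine ⟨m₁ * m₂, mul_mem hm₁ hm₂, fun x => ?_⟩
    rw [mulVec_mul_GL, e₂, e₁, hf_add_left, hf_smul_left, hww, mul_zero, add_zero, Pi.add_apply, add_smul]
    abel
  neg_mem' := by
    rintro f ⟨m, hm, e⟩
    refine ⟨m⁻¹, inv_mem hm, fun x => Max.mulVec_inj m ?_⟩
    rw [Max.mulVec_inv_cancel, e, hf_add_left, hf_smul_left, hww, mul_zero, add_zero, Pi.neg_apply, neg_smul]
    abel

variable {M : Subgroup (GL (Fin n) F)} {w : Fin n → F}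

theorem mem_uGrp (hww : hf D w w = 0) {f : K → K} :
    f ∈ uGrp D M hww ↔ ∃ m ∈ M, ∀ x, m •ᵥ x = x + f (hf D x w) • w := Iff.rfl

/-- scalars of the line act on the family -/
theorem rMap_scal (hM : LinM D M) (hw : w ≠ 0) (hww : hf D w w = 0) {z : K} (hz : Scal D z) {x y : K}
    (h : rMap D x y ∈ uGrp D M hww) : rMap D (z * x) (z * y) ∈ uGrp D M hww := by
  obtain ⟨g, hg, hgK, hgw⟩ := hz w hw hww
  obtain ⟨m, hm, hmx⟩ := (mem_uGrp D hww).1 h
  refine (mem_uGrp D hww).2 ⟨g * m * g⁻¹, mul_mem (mul_mem (hM g hg hgK) hm) (inv_mem (hM g hg hgK)), fun v => ?_⟩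
  have hb : hf D (g⁻¹ •ᵥ v) w = D.τ z * hf D v w := by
    rw [← hf_isometry D hg hgK, Max.mulVec_inv_cancel, hgw, hf_smul_right]
  rw [mulVec_mul_GL, mulVec_mul_GL, hmx, mulVec_add, Max.mulVec_inv_cancel, hgK, hgw, hb, smul_smul]
  congr 2
  simp only [rMap_apply, map_mul, sub_mul, smul_mul_assoc, mul_comm x z, mul_comm y z]
  congr 3 <;> ring

/-- the adjoint of a map of the line -/
theorem h_inv (hMK : M ≤ SUn) {h : GLn} (hh : h ∈ M) {a c : K} {f : F}
    (hk : ∀ k : K, h •ᵥ (k • w) = (k + (f * D.χ (k * D.τ a)) • (c * a)) • w) (x : Vec) :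
    hf D (h⁻¹ •ᵥ x) w = hf D x w + (f ^ q * D.χ (hf D x w * D.τ (c * a))) • a := by
  refine chi_ext D fun k => ?_
  have e := hf_image_chi D (hMK hh) (h⁻¹ •ᵥ x) (D.τ k • w)
  rw [Max.mulVec_inv_cancel, hk, hf_smul_right, hf_smul_right, D.hττ] at e
  rw [← e, map_add D.τ, D.hττ, τ_smul, mul_pow, ← D.hχτ, map_mul D.τ (D.τ k), D.hττ, D.hττ, add_mul,
    smul_mul_assoc, mul_add, map_add, map_add, map_smul, mul_smul_comm, map_smul, smul_eq_mul, smul_eq_mul,
    mul_comm (D.τ (c * a))]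
  ring

/-- an element moving only the fixed line -/
theorem exists_h (hM : LinM D M) {g : GLn} (hgM : g ∈ M) (hMK : M ≤ SUn) (hww : hf D w w = 0) {a : K}
    {f : F} {v₀ : Vec} (hv : hf D v₀ w = f • a)
    (hg : ∀ k : K, g •ᵥ (k • w) = k • w + D.χ (k * D.τ a) • v₀) {c : K} (hc : c + D.τ c = 0)
    (hca : D.χ (c * a * D.τ a) = 0) :
    ∃ h ∈ M, (∀ k : K, h •ᵥ (k • w) = (k + (f * D.χ (k * D.τ a)) • (c * a)) • w) ∧
      ∀ x, hf D (h⁻¹ •ᵥ x) w = hf D x w + (f ^ q * D.χ (hf D x w * D.τ (c * a))) • a := by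
  obtain ⟨h, hh, hhx⟩ := exists_conj D hM hgM hww hc
  have hj : g⁻¹ •ᵥ ((c * a) • w) = (c * a) • w := by
    have e := hg (c * a)
    rw [hca, zero_smul, add_zero] at e
    nth_rw 1 [← e]
    rw [Max.inv_mulVec_cancel]
  have hk : ∀ k : K, h •ᵥ (k • w) = (k + (f * D.χ (k * D.τ a)) • (c * a)) • w := by
    intro k
    rw [hhx, hg, hf_add_left, hf_smul_left, hww, mul_zero, zero_add, hf_smul_left', hv, smul_smul,
      mul_smul_comm, smul_assoc, mulVec_smul, hj, add_smul, smul_assoc, mul_comm f]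
  exact ⟨h, hh, hk, h_inv D hMK hh hk⟩

/-- the first family of relations -/
theorem rMap_rel (hM : LinM D M) (hMK : M ≤ SUn) (hww : hf D w w = 0) {a : K}
    {f : F} {t : F} (ht : t + t ^ q = 1) {c : K} {h : GLn} (hh : h ∈ M)
    (hhk : ∀ k : K, h •ᵥ (k • w) = (k + (f * D.χ (k * D.τ a)) • (c * a)) • w) {e : K} (he : e + D.τ e = 0) :
    rMap D (c * a) (-((f ^ q) • (e * a)) - (t * (f * f ^ q * D.χ (e * (a * D.τ a)))) • (c * a)) ∈
      uGrp D M hww := by
  have hhi := h_inv D hMK hh hhk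
  obtain ⟨ρ, hρ, hρx, hρK⟩ := exists_rt D hww he
  obtain ⟨ρ', hρ', hρ'x, hρ'K⟩ := exists_rt D hww (c := -e) (by rw [map_neg]; linear_combination -he)
  refine (mem_uGrp D hww).2 ⟨h * ρ * h⁻¹ * ρ',
    mul_mem (mul_mem (mul_mem hh (hM ρ hρ hρK)) (inv_mem hh)) (hM ρ' hρ' hρ'K), fun x => ?_⟩
  set b := hf D x w with hb
  rw [mulVec_mul_GL, mulVec_mul_GL, mulVec_mul_GL, hρ'x, hρx, mulVec_add, Max.mulVec_inv_cancel, hhk, hhi,
    hf_add_left, hf_smul_left, hww, mul_zero, add_zero, ← hb, add_assoc, ← add_smul]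
  congr 2
  have hm : (f * f ^ q * D.χ (e * (a * D.τ a))) ^ q = -(f * f ^ q * D.χ (e * (a * D.τ a))) := by
    rw [mul_pow, mul_pow, pow_qq D.hF, ← D.hχτ, map_mul D.τ, map_mul D.τ, D.hττ, mul_comm (D.τ a) a,
      show D.τ e = -e from eq_neg_of_add_eq_zero_right he, neg_mul, map_neg]
    ring
  have e2 : D.χ ((e * (b + (f ^ q * D.χ (b * D.τ (c * a))) • a)) * D.τ a) =
      D.χ (e * b * D.τ a) + (f ^ q * D.χ (b * D.τ (c * a))) * D.χ (e * (a * D.τ a)) := by
    rw [mul_add, add_mul, mul_smul_comm, smul_mul_assoc, map_add, map_smul, mul_assoc e a, smul_eq_mul]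
  have e3 : D.χ (b * D.τ (-((f ^ q) • (e * a)) - (t * (f * f ^ q * D.χ (e * (a * D.τ a)))) • (c * a))) =
      f * D.χ (e * b * D.τ a) + (t ^ q * (f * f ^ q * D.χ (e * (a * D.τ a)))) * D.χ (b * D.τ (c * a)) := by
    rw [map_sub D.τ, map_neg D.τ, τ_smul, τ_smul, mul_pow t, hm, pow_qq D.hF, map_mul D.τ e,
      show D.τ e = -e from eq_neg_of_add_eq_zero_right he, mul_sub, mul_neg, mul_smul_comm, mul_smul_comm,
      map_sub, map_neg, map_smul, map_smul, show b * (-e * D.τ a) = -(e * b * D.τ a) by ring, map_neg]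
    simp only [smul_eq_mul]
    ring
  rw [rMap_apply, e2, e3, mul_add e, mul_smul_comm]
  have ht' : algebraMap F K t + algebraMap F K (t ^ q) = 1 := by rw [← map_add, ht, map_one]
  simp only [Algebra.smul_def, map_mul, map_add]
  linear_combination -(algebraMap F K f * algebraMap F K (f ^ q) *
    algebraMap F K (D.χ (e * (a * D.τ a))) * algebraMap F K (D.χ (b * (D.τ c * D.τ a))) * (c * a)) * ht'

end Cfsg.Agent.Forms.Max.UnitExtField
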