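import Mathlib
import Cfsg.Agent.Lib.Forms.Max.UnitExtField.Roots
import Cfsg.Agent.Lib.Forms.Max.UnitExtField.Dual

/-!
# Every alternating map occurs on a moved line
-/

set_option autoImplicit false
set_option linter.unusedSectionVars false

namespace Cfsg.Agent.Forms.Max.UnitExtField

open Matrix Cfsg.Agent.Classical.Unitary

variable {F : Type*} [Field F] [Fintype F] {q n : ℕ} {K : Type*} [Field K] [Algebra F K] [FiniteDimensional F K]
  [Module K (Fin n → F)] [IsScalarTower F K (Fin n → F)]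

local notation "SUn" => (Cfsg.GU n F q ⊓ Cfsg.Geo.specialLinear (Fin n) F)

variable (D : Data F q n K)

theorem rMap_neg_right (x y : K) : rMap D x (-y) = - rMap D x y := by
  funext b
  simp only [Pi.neg_apply, rMap_apply, map_neg, mul_neg, neg_smul, smul_neg]
  abel

theorem rMap_sub_right (x y y' : K) : rMap D x (y - y') = rMap D x y - rMap D x y' := by
  rw [sub_eq_add_neg, rMap_add_right, rMap_neg_right, ← sub_eq_add_neg]

theorem rMap_zero_left (y : K) : rMap D 0 y = 0 := by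
  funext b
  simp [rMap_apply]

theorem rMap_self (x : K) : rMap D x x = 0 := by
  funext b
  simp [rMap_apply]

/-- two independent skew-fixed elements -/
theorem exists_two {ν : K} (hν : ν ∈ fixL D) (hν0 : ν ≠ 0) :
    ∃ l ∈ fixL D, ∃ l' ∈ fixL D, D.χ (l * ν) = 0 ∧ D.χ (l' * ν) = 0 ∧ l ≠ 0 ∧
      ∀ s : F, algebraMap F K s ≠ l' / l := by
  obtain ⟨ω, hω⟩ := exists_moved_scalar D.hF
  set P := orth D (Submodule.span F {ν}) with hP
  have hmem : ∀ k, k ∈ P ↔ D.χ (k * ν) = 0 := fun k => by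
    rw [hP, mem_orth]
    refine ⟨fun h => h ν (Submodule.mem_span_singleton_self ν), fun h x hx => ?_⟩
    obtain ⟨s, rfl⟩ := Submodule.mem_span_singleton.1 hx
    rw [mul_smul_comm, map_smul, h, smul_zero]
  have hdim : 2 ≤ Module.finrank F P := by
    have h1 := finrank_orth D (Submodule.span F {ν})
    rw [finrank_span_singleton hν0] at h1
    have := three_le_finrank D
    rw [hP]
    omega
  by_contra hc
  push Not at hc
  obtain ⟨l, hl⟩ : ∃ l : K, ∀ z ∈ fixL D, D.χ (z * ν) = 0 → z ∈ Submodule.span F {l} := by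
    by_cases h : ∃ l ∈ fixL D, D.χ (l * ν) = 0 ∧ l ≠ 0
    · obtain ⟨l, hlL, hlν, hl0⟩ := h
      refine ⟨l, fun z hz hzν => ?_⟩
      obtain ⟨s, hs⟩ := hc l hlL z hz hlν hzν hl0
      exact Submodule.mem_span_singleton.2 ⟨s, by rw [Algebra.smul_def, hs, div_mul_cancel₀ _ hl0]⟩
    · push Not at h
      exact ⟨0, fun z hz hzν => by rw [h z hz hzν]; exact Submodule.zero_mem _⟩
  have hle : P ≤ Submodule.span F {l} := fun k hk => by
    obtain ⟨u, hu, v, hv, rfl⟩ := exists_split D hω k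
    rw [hmem, add_mul, mul_assoc, ← Algebra.smul_def, map_add, map_smul, smul_eq_mul] at hk
    have h1 : D.χ (u * ν) ^ q = D.χ (u * ν) := chi_real D (mul_mem hu hν)
    have h2 : D.χ (v * ν) ^ q = D.χ (v * ν) := chi_real D (mul_mem hv hν)
    have hk' := congrArg (HermStd.qHom D.hF) hk
    simp only [map_add, map_mul, map_zero, HermStd.qHom_apply, h1, h2] at hk'
    have hv0 : D.χ (v * ν) = 0 := by
      have e : (ω - ω ^ q) * D.χ (v * ν) = 0 := by linear_combination hk - hk'
      exact (mul_eq_zero.1 e).resolve_left (sub_ne_zero.2 (Ne.symm hω))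
    rw [hv0, mul_zero, add_zero] at hk
    rw [← Algebra.smul_def]
    exact Submodule.add_mem _ (hl u hu hk) (Submodule.smul_mem _ _ (hl v hv hv0))
  have := (Submodule.finrank_mono hle).trans (finrank_span_le_card ({l} : Set K))
  simp at this
  omega

theorem exists_chi_fix {ν : K} (hν0 : ν ≠ 0) : ∃ l ∈ fixL D, D.χ (l * ν) ≠ 0 := by
  obtain ⟨ω, hω⟩ := exists_moved_scalar D.hF
  by_contra hc
  push Not at hc
  refine hν0 (chi_ext D fun k => ?_)
  obtain ⟨u, hu, v, hv, rfl⟩ := exists_split D hω k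
  rw [mul_zero, map_zero, add_mul, mul_assoc, ← Algebra.smul_def, map_add, map_smul, hc u hu, hc v hv,
    smul_zero, add_zero]

variable {M : Subgroup (GL (Fin n) F)} {w : Fin n → F}

/-- what the normal form provides -/
def Rels (D : Data F q n K) (M : Subgroup (GL (Fin n) F)) {w : Fin n → F} (hww : hf D w w = 0) (a : K)
    (f ε t : F) : Prop :=
  ∀ l ∈ fixL D, D.χ (l * (a * D.τ a)) = 0 → ∀ e ∈ fixL D,
    rMap D (ε • (l * a)) (-((f ^ q) • (ε • (e * a))) -
      (t * (f * f ^ q * (ε * D.χ (e * (a * D.τ a))))) • (ε • (l * a))) ∈ uGrp D M hww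

theorem rels_of_fam (hM : LinM D M) (hMK : M ≤ SUn) (hww : hf D w w = 0) {a : K} {f : F}
    (hfam : ∀ c : K, c + D.τ c = 0 → D.χ (c * a * D.τ a) = 0 → ∃ h ∈ M,
      ∀ k : K, (h : Matrix (Fin n) (Fin n) F) *ᵥ (k • w) = (k + (f * D.χ (k * D.τ a)) • (c * a)) • w)
    {ε t : F} (hε : ε + ε ^ q = 0) (ht : t + t ^ q = 1) : Rels D M hww a f ε t := by
  intro l hl hlν e he
  have hc : ∀ x ∈ fixL D, ε • x + D.τ (ε • x) = 0 := fun x hx => by
    rw [τ_smul, (mem_fixL D).1 hx, ← add_smul, hε, zero_smul]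
  obtain ⟨h₀, hh₀, hhk⟩ := hfam _ (hc l hl)
    (by rw [smul_mul_assoc, smul_mul_assoc, map_smul, mul_assoc, hlν, smul_zero])
  have h := rMap_rel D hM hMK hww ht hh₀ hhk (hc e he)
  rw [smul_mul_assoc ε l a, smul_mul_assoc ε e a, smul_mul_assoc ε e (a * D.τ a), map_smul, smul_eq_mul] at h
  exact h

theorem rels_of_shape (hM : LinM D M) {g : GL (Fin n) F} (hgM : g ∈ M) (hMK : M ≤ SUn) (hww : hf D w w = 0)
    {a : K} {f : F} {v₀ : Fin n → F} (hv : hf D v₀ w = f • a)
    (hg : ∀ k : K, (g : Matrix (Fin n) (Fin n) F) *ᵥ (k • w) = k • w + D.χ (k * D.τ a) • v₀)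
    {ε t : F} (hε : ε + ε ^ q = 0) (ht : t + t ^ q = 1) : Rels D M hww a f ε t :=
  rels_of_fam D hM hMK hww (fun _ hc hca => by
    obtain ⟨h, hh, hhk, -⟩ := exists_h D hM hgM hMK hww hv hg hc hca
    exact ⟨h, hh, hhk⟩) hε ht

/-- polarised and translated relations -/
theorem rels_polar (hM : LinM D M) (hw : w ≠ 0) (hww : hf D w w = 0) {a : K} {f ε t : F}
    (hε0 : ε ≠ 0) (hε : ε + ε ^ q = 0) (ht : t + t ^ q = 1) (hR : Rels D M hww a f ε t) {e : K}
    (he : e ∈ fixL D) {g : K} (hg : Scal D g) {x : K} (hx : x ∈ fixL D) {l l' : K} (hl : l ∈ fixL D)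
    (hlν : D.χ (l * (a * D.τ a)) = 0) (hl' : l' ∈ fixL D) (hl'ν : D.χ (l' * (a * D.τ a)) = 0) :
    rMap D (g * a * (x * l)) ((f * f ^ q * (ε * D.χ (e * (a * D.τ a)))) • (g * a * (x * l'))) ∈
      uGrp D M hww := by
  set m := f * f ^ q * (ε * D.χ (e * (a * D.τ a))) with hm_def
  have hν : a * D.τ a ∈ fixL D := mul_τ_mem D a
  have hm : m ^ q = -m := by
    rw [hm_def, mul_pow, mul_pow, mul_pow, pow_qq D.hF, chi_real D (mul_mem he hν)]
    linear_combination (f * f ^ q * D.χ (e * (a * D.τ a))) * hε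
  have hpol : ∀ l₁ l₂ : K, l₁ ∈ fixL D → D.χ (l₁ * (a * D.τ a)) = 0 → l₂ ∈ fixL D →
      D.χ (l₂ * (a * D.τ a)) = 0 → rMap D (ε • (l₁ * a)) (m • (ε • (l₂ * a))) ∈ uGrp D M hww := by
    intro l₁ l₂ h1 h1' h2 h2'
    have e3 := hR (l₁ + l₂) (add_mem h1 h2) (by rw [add_mul, map_add, h1', h2', add_zero]) e he
    have e1 := hR l₁ h1 h1' e he
    have e2 := hR l₂ h2 h2' e he
    rw [← hm_def] at e1 e2 e3
    rw [add_mul, smul_add] at e3
    set j₁ := ε • (l₁ * a)
    set j₂ := ε • (l₂ * a)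
    set y := -((f ^ q) • (ε • (e * a)))
    have h4 := AddSubgroup.sub_mem _ (AddSubgroup.sub_mem _ e3 e1) e2
    simp only [smul_add, rMap_sub_right, rMap_add_left, rMap_add_right] at h4
    have e5 : rMap D j₂ ((t * m) • j₁) = - rMap D j₁ (((t * m) ^ q) • j₂) := by
      rw [rMap_swap D ((t * m) • j₁) j₂, rMap_smul]
    rw [e5] at h4
    have e6 : m • j₂ = (t * m) • j₂ - ((t * m) ^ q) • j₂ := by
      rw [← sub_smul, mul_pow, hm, show t * m - t ^ q * -m = m * (t + t ^ q) by ring, ht, mul_one]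
    rw [e6, rMap_sub_right]
    convert AddSubgroup.neg_mem _ h4 using 1
    abel
  set N := ε ^ q * ε
  have hN0 : N ≠ 0 := mul_ne_zero (pow_ne_zero _ hε0) hε0
  have hN : N⁻¹ ^ q = N⁻¹ := by rw [inv_pow, mul_pow, pow_qq D.hF, mul_comm]
  have hp := hpol l (algebraMap F K N⁻¹ * l') hl hlν (mul_mem (alg_mem_fixL D hN) hl')
    (by rw [mul_assoc, ← Algebra.smul_def, map_smul, hl'ν, smul_zero])
  rw [rMap_smul, mul_assoc (algebraMap F K N⁻¹), ← Algebra.smul_def, smul_smul, smul_smul, smul_smul,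
    show ε ^ q * m * ε * N⁻¹ = m * (N * N⁻¹) by ring, mul_inv_cancel₀ hN0, mul_one] at hp
  by_cases hx0 : x = 0
  · rw [hx0, zero_mul, zero_mul, mul_zero, rMap_zero_left]
    exact AddSubgroup.zero_mem _
  have h2 := rMap_scal D hM hw hww hg (rMap_scal D hM hw hww (scal_fix D hx hx0) hp)
  rw [mul_smul_comm, mul_smul_comm] at h2
  convert h2 using 2
  · ring
  · congr 1; ring

theorem squares_span {v : K} (hv : v ∈ fixL D) (Q : AddSubgroup K) (h : ∀ x ∈ fixL D, x * x ∈ Q) : v ∈ Q := by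
  by_cases h2 : ringChar K = 2
  · haveI := finite_K D
    haveI : Fintype K := Fintype.ofFinite K
    obtain ⟨s, hs⟩ := FiniteField.isSquare_of_char_two h2 v
    have h20 : (2 : K) = 0 := by
      haveI : CharP K 2 := h2 ▸ ringChar.charP K
      exact_mod_cast CharP.cast_eq_zero K 2
    have hτ : (D.τ s - s) * (D.τ s - s) = 0 := by
      have e : D.τ s * D.τ s = s * s := by rw [← map_mul, ← hs]; exact hv
      linear_combination e + (s * s - D.τ s * s) * h20
    exact hs ▸ h s ((mem_fixL D).2 (sub_eq_zero.1 (mul_self_eq_zero.1 hτ)))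
  · have h20 : (2 : K) ≠ 0 := Ring.two_ne_zero h2
    have hc : ((2 : K) * 2)⁻¹ ∈ fixL D := by
      rw [mem_fixL, map_inv₀, map_mul, map_ofNat]
    have e : v = (v + (2 * 2)⁻¹) * (v + (2 * 2)⁻¹) - (v - (2 * 2)⁻¹) * (v - (2 * 2)⁻¹) := by
      field_simp
      ring
    rw [e]
    exact AddSubgroup.sub_mem _ (h _ (add_mem hv hc)) (h _ (sub_mem hv hc))

theorem exists_separating_aux {A : Type*} [AddCommGroup A] {p : ℕ} [Fact p.Prime] [Module (ZMod p) A]
    (U : AddSubgroup A) {x : A} (hx : x ∉ U) : ∃ φ : A →+ ZMod p, (∀ h ∈ U, φ h = 0) ∧ φ x ≠ 0 := by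
  obtain ⟨φ₀, hφx, hφU⟩ := Submodule.exists_dual_map_eq_bot_of_notMem
    (p := (AddSubgroup.toZModSubmodule p U : Submodule (ZMod p) A)) (x := x) hx inferInstance
  refine ⟨φ₀.toAddMonoidHom, fun h hh => ?_, hφx⟩
  have : φ₀ h ∈ (AddSubgroup.toZModSubmodule p U).map φ₀ := Submodule.mem_map_of_mem hh
  rwa [hφU, Submodule.mem_bot] at this

/-- a subgroup of an elementary abelian group is cut out by functionals -/
theorem exists_separating {A : Type*} [AddCommGroup A] {p : ℕ} [Fact p.Prime] (hA : ∀ z : A, p • z = 0)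
    (U : AddSubgroup A) {x : A} (hx : x ∉ U) : ∃ φ : A →+ ZMod p, (∀ h ∈ U, φ h = 0) ∧ φ x ≠ 0 :=
  @exists_separating_aux A _ p _ (AddCommGroup.zmodModule hA) U x hx

/-- polarised relations kill symmetric forms on the fixed field -/
theorem sym_zero {p : ℕ} [Fact p.Prime] [CharP F p] (S : K → K → ZMod p)
    (hadd : ∀ u u' v, S (u + u') v = S u v + S u' v) (hsym : ∀ u v, S v u = S u v)
    (hreal : ∀ s : F, s ^ q = s → ∀ u v, S (s • u) v = S u (s • v)) {l l' : K} (hl : l ∈ fixL D)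
    (hl' : l' ∈ fixL D) (hl0 : l ≠ 0) (hu : ∀ s : F, algebraMap F K s ≠ l' / l)
    (h : ∀ x ∈ fixL D, S (x * l) (x * l) = 0 ∧ S (x * l) (x * l') = 0) :
    ∀ u ∈ fixL D, ∀ v ∈ fixL D, S u v = 0 := by
  have haddr : ∀ u v v', S u (v + v') = S u v + S u v' := fun u v v' => by
    rw [hsym (v + v') u, hadd, hsym v u, hsym v' u]
  set μ := l' / l
  have hμ : μ ∈ fixL D := div_mem hl' hl
  have hd : ∀ x ∈ fixL D, S x x = 0 ∧ S x (μ * x) = 0 := fun x hx => by
    have h1 := h (x / l) (div_mem hx hl)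
    rw [div_mul_cancel₀ _ hl0] at h1
    exact ⟨h1.1, by rw [show μ * x = x / l * l' by ring]; exact h1.2⟩
  by_cases hp : p = 2
  swap
  · intro u hu v hv
    have e := (hd (u + v) (add_mem hu hv)).1
    rw [hadd, haddr, haddr, (hd u hu).1, (hd v hv).1, hsym u v, zero_add, add_zero] at e
    have h2 : (2 : ZMod p) ≠ 0 := by
      intro h2
      have h3 : p ∣ 2 := (ZMod.natCast_eq_zero_iff 2 p).1 (by exact_mod_cast h2)
      exact hp ((Nat.prime_dvd_prime_iff_eq Fact.out Nat.prime_two).1 h3)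
    exact (mul_eq_zero.1 (show (2 : ZMod p) * S u v = 0 by linear_combination e)).resolve_left h2
  subst hp
  let Adj : K → Prop := fun k => ∀ u ∈ fixL D, ∀ v ∈ fixL D, S (k * u) v = S u (k * v)
  have hμA : Adj μ := fun u hu v hv => by
    have e := (hd (u + v) (add_mem hu hv)).2
    rw [mul_add, hadd, haddr, haddr, (hd u hu).2, (hd v hv).2, zero_add, add_zero] at e
    rw [hsym v (μ * u), eq_neg_of_add_eq_zero_left (show S v (μ * u) + S u (μ * v) = 0 by linear_combination e),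
      ZMod.neg_eq_self_mod_two]
  let W : Submodule F K :=
    { carrier := {k | ∀ s : F, s • k + D.τ (s • k) ∈ fixL D ∧ Adj (s • k + D.τ (s • k))}
      add_mem' := fun {a b} ha hb s => by
        refine ⟨add_τ_mem D _, fun u hu v hv => ?_⟩
        rw [smul_add, map_add, add_add_add_comm, add_mul _ _ u, add_mul _ _ v, hadd, haddr, (ha s).2 u hu v hv,
          (hb s).2 u hu v hv]
      zero_mem' := fun s => by
        refine ⟨add_τ_mem D _, fun u _ v _ => ?_⟩
        rw [smul_zero, map_zero, add_zero, zero_mul, zero_mul]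
        have h0 : ∀ v, S 0 v = 0 := fun v => by have := hadd 0 0 v; rw [add_zero] at this; linear_combination -this
        rw [h0, hsym 0, h0]
      smul_mem' := fun c a ha s => by rw [smul_smul]; exact ha _ }
  have hW1 : (1 : K) ∈ W := fun s => by
    refine ⟨add_τ_mem D _, fun u _ v _ => ?_⟩
    rw [τ_smul, map_one, ← add_smul, smul_mul_assoc, smul_mul_assoc, one_mul, one_mul]
    exact hreal _ (by rw [← HermStd.qHom_apply D.hF, map_add, HermStd.qHom_apply, HermStd.qHom_apply, pow_qq D.hF,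
      add_comm]) u v
  let St : Subalgebra F K :=
    { carrier := {k | ∀ y ∈ W, k * y ∈ W}
      mul_mem' := fun {a b} ha hb y hy => by rw [mul_assoc]; exact ha _ (hb y hy)
      add_mem' := fun {a b} ha hb y hy => by rw [add_mul]; exact W.add_mem (ha y hy) (hb y hy)
      algebraMap_mem' := fun s y hy => by rw [← Algebra.smul_def]; exact W.smul_mem _ hy }
  have hμSt : μ ∈ St := fun y hy s => by
    refine ⟨add_τ_mem D _, fun u hu v hv => ?_⟩
    have hr := (hy s).1
    have e : s • (μ * y) + D.τ (s • (μ * y)) = μ * (s • y + D.τ (s • y)) := by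
      rw [mul_add, ← mul_smul_comm, map_mul D.τ, (mem_fixL D).1 hμ]
    rw [e, mul_assoc, hμA _ (mul_mem hr hu) v hv, (hy s).2 u hu _ (mul_mem hμ hv), ← mul_assoc,
      mul_comm (s • y + D.τ (s • y)) μ]
  have htop := subalgebra_top D hμSt hu
  obtain ⟨t, ht⟩ := exists_trace_one D
  have hA : ∀ k ∈ fixL D, Adj k := fun k hk => by
    have := ((show k ∈ St from htop ▸ Algebra.mem_top) 1 hW1 t).2
    rwa [mul_one, τ_smul, (mem_fixL D).1 hk, ← add_smul, ht, one_smul] at this
  intro u hu' v hv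
  by_cases hu0 : u = 0
  · have h1 := hadd 0 0 v
    rw [add_zero] at h1
    rw [hu0]
    linear_combination -h1
  haveI := finite_K D
  haveI : Fintype K := Fintype.ofFinite K
  haveI : CharP K 2 := charP_of_injective_algebraMap (algebraMap F K).injective 2
  obtain ⟨s, hs⟩ := FiniteField.isSquare_of_char_two ((ringChar.eq_iff).2 ‹CharP K 2›) (v / u)
  have hsL : s ∈ fixL D := by
    have e : D.τ s * D.τ s = s * s := by rw [← map_mul, ← hs]; exact div_mem hv hu'
    have h20 : (2 : K) = 0 := by exact_mod_cast CharP.cast_eq_zero K 2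
    have hτ : (D.τ s - s) * (D.τ s - s) = 0 := by linear_combination e + (s * s - D.τ s * s) * h20
    exact (mem_fixL D).2 (sub_eq_zero.1 (mul_self_eq_zero.1 hτ))
  rw [show v = s * (s * u) by rw [← mul_assoc, ← hs, div_mul_cancel₀ _ hu0],
    ← hA s hsL u hu' _ (mul_mem hsL hu'), (hd _ (mul_mem hsL hu')).1]

/-- the heart: every map of the family occurs -/
theorem rMap_mem {p : ℕ} [Fact p.Prime] [CharP F p] (hM : LinM D M) (hw : w ≠ 0) (hww : hf D w w = 0)
    {a : K} (ha : a ≠ 0) {f ε t : F} (hf0 : f ≠ 0) (hε0 : ε ≠ 0) (hε : ε + ε ^ q = 0) (ht : t + t ^ q = 1)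
    (hR : Rels D M hww a f ε t) {g₁ : K} (hg₁ : Scal D g₁) (hψ : ∀ s : F, algebraMap F K s ≠ g₁ / D.τ g₁)
    (x y : K) : rMap D x y ∈ uGrp D M hww := by
  haveI := finite_K D
  haveI : CharP K p := charP_of_injective_algebraMap (algebraMap F K).injective p
  set U := uGrp D M hww with hU
  by_contra hxy
  obtain ⟨φ, hφ, hφxy⟩ := exists_separating (p := p) (fun φ : K → K => by
    funext b
    rw [Pi.smul_apply, nsmul_eq_mul, CharP.cast_eq_zero, zero_mul, Pi.zero_apply]) U hxy
  refine hφxy ?_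
  set ν := a * D.τ a with hν_def
  have hν : ν ∈ fixL D := mul_τ_mem D a
  have hν0 : ν ≠ 0 := mul_ne_zero ha (τ_ne_zero D ha)
  obtain ⟨l, hl, l', hl', hlν, hl'ν, hl0, hll'⟩ := exists_two D hν hν0
  obtain ⟨e₀, he₀, hc0⟩ := exists_chi_fix D hν0
  set c₀ := D.χ (e₀ * ν)
  set m := f * f ^ q * (ε * c₀) with hm_def
  have hm0 : m ≠ 0 := mul_ne_zero (mul_ne_zero hf0 (pow_ne_zero _ hf0)) (mul_ne_zero hε0 hc0)
  have hc₀ : c₀ ^ q = c₀ := chi_real D (mul_mem he₀ hν)
  have hm : m ^ q = -m := by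
    rw [hm_def, mul_pow, mul_pow, mul_pow, pow_qq D.hF, hc₀]
    linear_combination (f * f ^ q * c₀) * hε
  -- the values on translates of the line of `a`
  have hline : ∀ g : K, Scal D g → ∀ u ∈ fixL D, ∀ v ∈ fixL D,
      φ (rMap D (g * a * u) (m • (g * a * v))) = 0 := by
    intro g hg
    refine sym_zero D (fun u v => φ (rMap D (g * a * u) (m • (g * a * v)))) (fun u u' v => ?_) (fun u v => ?_)
      (fun s hs u v => ?_) hl hl' hl0 hll' fun x' hx' => ?_
    · rw [mul_add, rMap_add_left, map_add]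
    · rw [rMap_swap D (m • (g * a * u)) (g * a * v), rMap_smul, hm, neg_smul, rMap_neg_right, neg_neg]
    · rw [mul_smul_comm, rMap_smul, hs, smul_comm, mul_smul_comm]
    · exact ⟨hφ _ (rels_polar D hM hw hww hε0 hε ht hR he₀ hg hx' hl hlν hl hlν),
        hφ _ (rels_polar D hM hw hww hε0 hε ht hR he₀ hg hx' hl hlν hl' hl'ν)⟩
  obtain ⟨π, hπ0, hπ⟩ := exists_pi D (p := p)
  have hrep : ∀ x : K, ∃ W : K, ∀ y, φ (rMap D x y) = π (D.χ (W * D.τ y)) := fun x =>
    exists_rep D hπ (φ.comp (AddMonoidHom.mk' (fun y => rMap D x y) (rMap_add_right D x)))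
  choose P hP using hrep
  have huniq : ∀ {W W' : K}, (∀ y, π (D.χ (W * D.τ y)) = π (D.χ (W' * D.τ y))) → W = W' := fun h =>
    sub_eq_zero.1 (eq_zero_of_pi D hπ fun y => by rw [sub_mul, map_sub, map_sub, h, sub_self])
  have hPadd : ∀ u v, P (u + v) = P u + P v := fun u v => huniq fun y => by
    rw [← hP, rMap_add_left, map_add, hP, hP, add_mul, map_add, map_add]
  have hPsmul : ∀ (s : F) u, P (s • u) = s • P u := fun s u => huniq fun y => by
    rw [← hP, rMap_smul, hP, τ_smul, pow_qq D.hF, mul_smul_comm, smul_mul_assoc]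
  let Λ : K →ₗ[F] K :=
    { toFun := fun u => (m ^ q) • P u
      map_add' := fun u v => by rw [hPadd, smul_add]
      map_smul' := fun s u => by rw [hPsmul, smul_comm, RingHom.id_apply] }
  obtain ⟨ω, hω⟩ := exists_moved_scalar D.hF
  have hJ : ∀ g : K, g ≠ 0 → Scal D g → ∀ z : K,
      Λ (g * a / D.τ (g * a) * D.τ z) = g * a / D.τ (g * a) * D.τ (Λ z) := by
    intro g hg0 hg
    set c := g * a
    have hτc : D.τ c ≠ 0 := τ_ne_zero D (mul_ne_zero hg0 ha)
    have hfx : ∀ u ∈ fixL D, c / D.τ c * D.τ (c * u) = c * u ∧ c / D.τ c * D.τ (Λ (c * u)) = Λ (c * u) := by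
      intro u hu
      refine ⟨by rw [map_mul D.τ c u, (mem_fixL D).1 hu, ← mul_assoc, div_mul_cancel₀ _ hτc], ?_⟩
      have hin : Λ (c * u) * D.τ c ∈ fixL D := mem_fixL_of_pi D hπ fun v hv => by
        have h := hline g hg u hu v hv
        rw [hP, τ_smul, map_mul D.τ (g * a) v, (mem_fixL D).1 hv] at h
        rw [← h]
        congr 2
        show (m ^ q) • P (c * u) * D.τ c * v = _
        rw [mul_smul_comm, smul_mul_assoc, smul_mul_assoc, mul_assoc]
      rw [mem_fixL, map_mul, D.hττ] at hin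
      rw [div_mul_eq_mul_div, mul_comm c, hin, mul_div_assoc, div_self hτc, mul_one]
    intro z
    obtain ⟨u, hu, v, hv, e⟩ := exists_split D hω (z / c)
    have hz : z = c * u + ω • (c * v) := by
      rw [Algebra.smul_def, mul_left_comm, ← mul_add, ← e, mul_div_cancel₀]
      exact mul_ne_zero hg0 ha
    rw [hz, map_add, τ_smul, mul_add, mul_smul_comm, (hfx u hu).1, (hfx v hv).1, map_add, map_smul, map_add Λ,
      map_smul, map_add D.τ, τ_smul, mul_add, mul_smul_comm, (hfx u hu).2, (hfx v hv).2]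
  have hg₁0 : g₁ ≠ 0 := fun h => hψ 0 (by rw [h, map_zero, zero_div])
  let St : Subalgebra F K :=
    { carrier := {k | ∀ z, Λ (k * z) = k * Λ z}
      mul_mem' := fun {a b} ha hb z => by rw [mul_assoc, ha, hb, mul_assoc]
      add_mem' := fun {a b} ha hb z => by rw [add_mul, map_add, ha, hb, add_mul]
      algebraMap_mem' := fun s z => by rw [← Algebra.smul_def, map_smul, Algebra.smul_def] }
  have hτa := τ_ne_zero D ha
  have hτg := τ_ne_zero D hg₁0
  have hψSt : g₁ / D.τ g₁ ∈ St := fun z => by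
    have h1 := hJ 1 one_ne_zero (scal_fix D (one_mem _) one_ne_zero)
    simp only [one_mul] at h1
    have key : ∀ z : K, g₁ / D.τ g₁ * z = g₁ * a / D.τ (g₁ * a) * D.τ (a / D.τ a * D.τ z) := fun z => by
      simp only [map_mul, map_div₀, D.hττ]
      field_simp
    rw [key, hJ g₁ hg₁0 hg₁, h1, key]
  have htop := subalgebra_top D hψSt hψ
  set lam := (m ^ q)⁻¹ • Λ 1
  have hlam : ∀ u v, φ (rMap D u v) = π (D.χ (lam * (u * D.τ v))) := fun u v => by
    have e := (show u ∈ St from htop ▸ Algebra.mem_top) 1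
    rw [mul_one] at e
    rw [hP, ← mul_assoc]
    congr 3
    show P u = (m ^ q)⁻¹ • Λ 1 * u
    rw [smul_mul_assoc, mul_comm (Λ 1) u, ← e]
    show P u = _ • (m ^ q) • P u
    rw [inv_smul_smul₀ (pow_ne_zero _ hm0)]
  have hlamL : lam ∈ fixL D := mem_fixL_of_pi D hπ fun v hv => by
    obtain ⟨z, hz⟩ := exists_norm_K D hv
    rw [← hz, ← hlam, rMap_self, map_zero]
  -- the main relation
  have hmain : ∀ e ∈ fixL D, ∀ z ∈ fixL D, ∀ d ∈ fixL D, D.χ (d * ν) = 0 → d ≠ 0 →
      π (ε * ε * f * D.χ (lam * (z * (e * ν))) -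
        ε * ε * (t ^ q * (f * f ^ q * ε)) * (D.χ (e * ν) * D.χ (lam * (z * (d * ν))))) = 0 := by
    intro e he z hz d hd hdν hd0
    let j := ε • (d * a)
    let x₂ := -((f ^ q) • (ε • (e * a))) - (t * (f * f ^ q * (ε * D.χ (e * ν)))) • j
    let Q : AddSubgroup K :=
      { carrier := {s | π (D.χ (lam * (s * (j * D.τ x₂)))) = 0}
        zero_mem' := by simp
        add_mem' := fun {a b} ha hb => by
          simp only [Set.mem_ofPred_eq] at ha hb ⊢
          rw [add_mul, mul_add, map_add, map_add, ha, hb, add_zero]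
        neg_mem' := fun {a} ha => by
          simp only [Set.mem_ofPred_eq] at ha ⊢
          rw [neg_mul, mul_neg, map_neg, map_neg, ha, neg_zero] }
    have hsq : ∀ s ∈ fixL D, s * s ∈ Q := fun s hs => by
      show π (D.χ (lam * (s * s * (j * D.τ x₂)))) = 0
      by_cases hs0 : s = 0
      · simp [hs0]
      have := hφ _ (rMap_scal D hM hw hww (scal_fix D hs hs0) (hR d hd hdν e he))
      rw [hlam, map_mul D.τ, (mem_fixL D).1 hs] at this
      rw [← this]
      congr 3
      ring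
    have h : π (D.χ (lam * (z / d * (j * D.τ x₂)))) = 0 := squares_span D (div_mem hz hd) Q hsq
    have hτε : ∀ s : K, D.τ (ε • s) = -(ε • D.τ s) := fun s => by
      rw [τ_smul, eq_neg_of_add_eq_zero_right hε, neg_smul]
    have hreal : D.χ (e * ν) ^ q = D.χ (e * ν) := chi_real D (mul_mem he hν)
    have e1 : lam * (z / d * (j * D.τ x₂)) = (ε * ε * f) • (lam * (z * (e * ν))) -
        (ε * ε * (t ^ q * (f * f ^ q * ε)) * D.χ (e * ν)) • (lam * (z * (d * ν))) := by
      have hεq : algebraMap F K (ε ^ q) = -algebraMap F K ε := by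
        rw [eq_neg_of_add_eq_zero_right hε, map_neg]
      simp only [j, x₂, map_sub D.τ, map_neg D.τ, τ_smul, D.hτF, mul_pow, pow_qq D.hF, hreal, map_mul D.τ,
        (mem_fixL D).1 hd, (mem_fixL D).1 he, Algebra.smul_def, map_mul, hεq]
      simp only [hν_def]
      field_simp
    rw [e1, map_sub, map_smul, map_smul, smul_eq_mul, smul_eq_mul] at h
    rw [← h]
    congr 1
    ring
  have hlam0 : lam = 0 := by
    have hl'0 : l' ≠ 0 := fun h => hll' 0 (by rw [h, map_zero, zero_div])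
    have hsum : l + l' ≠ 0 := fun h => hll' (-1) (by
      rw [map_neg, map_one, eq_div_iff hl0]
      linear_combination -h)
    have hzero : ∀ z ∈ fixL D, D.χ (z * (lam * (l' * ν))) = 0 := by
      intro z hz
      set v := D.χ (z * (lam * (l' * ν)))
      have hv : v ^ q = v := chi_real D (mul_mem hz (mul_mem hlamL (mul_mem hl' hν)))
      set C := ε * ε * (t ^ q * (f * f ^ q * ε))
      have hC : (C * (c₀ * v)) ^ q = C * (c₀ * v) := hπ _ fun s hs => by
        have hz' := mul_mem (alg_mem_fixL D hs) hz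
        have h1 := hmain e₀ he₀ _ hz' l hl hlν hl0
        have h2 := hmain e₀ he₀ _ hz' (l + l') (add_mem hl hl') (by rw [add_mul, map_add, hlν, hl'ν, add_zero]) hsum
        have hv' : D.χ (lam * (algebraMap F K s * z * ((l + l') * ν))) =
            D.χ (lam * (algebraMap F K s * z * (l * ν))) + s * v := by
          rw [show s * v = s • v from rfl, ← map_smul D.χ, ← map_add, Algebra.smul_def]
          congr 1
          ring
        rw [hv', mul_add, mul_add, ← sub_sub, map_sub, h1, zero_sub, neg_eq_zero] at h2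
        rw [← h2]
        congr 1
        ring
      by_contra hv0
      have hC0 : ε * ε * ε * (f * f ^ q) ≠ 0 :=
        mul_ne_zero (mul_ne_zero (mul_ne_zero hε0 hε0) hε0) (mul_ne_zero hf0 (pow_ne_zero _ hf0))
      refine (mul_ne_zero hC0 (mul_ne_zero hc0 hv0)) ?_
      simp only [C, mul_pow, pow_qq D.hF, hc₀, hv, eq_neg_of_add_eq_zero_right hε] at hC
      linear_combination -hC - (ε * ε * ε * (f * f ^ q) * (c₀ * v)) * ht
    have h0 : lam * (l' * ν) = 0 := by
      refine chi_ext D fun k => ?_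
      obtain ⟨u, hu, v, hv, rfl⟩ := exists_split D hω k
      rw [mul_zero, map_zero, add_mul, mul_assoc, ← Algebra.smul_def, map_add, map_smul, hzero u hu, hzero v hv,
        smul_zero, add_zero]
    exact (mul_eq_zero.1 h0).resolve_right (mul_ne_zero hl'0 hν0)
  rw [hlam, hlam0, zero_mul, map_zero, map_zero]

end Cfsg.Agent.Forms.Max.UnitExtField
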