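import Mathlib
import Cfsg.Agent.Lib.Forms.Max.UnitExtField.Normal

/-!
# A vanishing functional in dimension three over a cubic extension
-/

set_option autoImplicit false
set_option linter.unusedSectionVars false

namespace Cfsg.Agent.Forms.Max.UnitExtField

open Matrix Cfsg.Agent.Classical.Unitary

variable {F : Type*} [Field F] [Fintype F] {q n : ℕ} {K : Type*} [Field K] [Algebra F K] [FiniteDimensional F K]
  [Module K (Fin n → F)] [IsScalarTower F K (Fin n → F)]

local notation "Vec" => (Fin n → F)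
local notation "GLn" => GL (Fin n) F
local notation "H" => Cfsg.hermForm n F q
local notation "SUn" => (Cfsg.GU n F q ⊓ Cfsg.Geo.specialLinear (Fin n) F)
local notation:80 g " •ᵥ " x:81 => Matrix.mulVec (Units.val g) x

variable (D : Data F q n K)

/-- Eichler transformations -/
theorem exists_eichler {w u : Vec} (hww : hf D w w = 0) (huw : hf D u w = 0) :
    ∃ E ∈ SUn, (∀ z, hf D z w = 0 → E •ᵥ z = z + hf D z u • w) ∧
      ∀ (k : K) z, E •ᵥ (k • z) = k • (E •ᵥ z) := by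
  obtain ⟨β, hβ⟩ := exists_trace_hf D u
  have hwu : hf D w u = 0 := (hf_eq_zero_comm D).1 huw
  let T : Vec →ₗ[K] Vec := (LinearMap.transvection (hl D u + (β + hf D u u) • hl D w) w).comp
    (LinearMap.transvection (-hl D w) u)
  have hT : ∀ z, T z = z + (-hf D z w) • u + (hf D z u + β * hf D z w) • w := fun z => by
    show z + (-hf D z w) • u + (hf D (z + (-hf D z w) • u) u +
      (β + hf D u u) * hf D (z + (-hf D z w) • u) w) • w = _
    rw [hf_add_left, hf_add_left, hf_smul_left, hf_smul_left, huw]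
    congr 2
    ring
  obtain ⟨E, hE, hEx, hEK⟩ := exists_elem D T (fun x y => by
    rw [hT, hT]
    simp only [hf_add_left, hf_add_right, hf_smul_left, hf_smul_right, map_add, map_mul, map_neg, hf_conj,
      hww, huw, hwu]
    linear_combination (hf D x w * hf D w y) * hβ) (by
    haveI : Module.Finite K Vec := finite_module D
    rw [LinearMap.det_comp, LinearMap.transvection.det, LinearMap.transvection.det, LinearMap.add_apply,
      LinearMap.smul_apply, LinearMap.neg_apply, hl_apply, hl_apply, hl_apply, hwu, huw, hww, smul_zero, neg_zero,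
      add_zero, add_zero, mul_one, map_one])
  exact ⟨E, hE, fun z hz => by rw [hEx, hT, hz, neg_zero, zero_smul, add_zero, mul_zero, add_zero], hEK⟩

/-- outside the line, the orthogonal of an isotropic vector is anisotropic -/
theorem aniso (h3 : Module.finrank K (Fin n → F) = 3) {w : Vec} (hw : w ≠ 0) (hww : hf D w w = 0) {x : Vec}
    (hxw : hf D x w = 0) (hx : ∀ t : K, x ≠ t • w) : hf D x x ≠ 0 := by
  obtain ⟨p, hpp, hwp⟩ := exists_iso_partner D hw
  have h1 := finrank_perp2 D hww hpp hwp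
  haveI := finite_module D
  set y := x - hf D x p • w with hy
  have hyQ : y ∈ perp2 D w p := by
    have := perp2_part D hww hpp hwp x
    rwa [hxw, zero_smul, sub_zero] at this
  have hy0 : y ≠ 0 := fun h => hx _ (sub_eq_zero.1 h)
  obtain ⟨z, hz, hyz⟩ := perp2_nondeg D hww hpp hwp y hyQ hy0
  obtain ⟨c, hc⟩ := (finrank_eq_one_iff_of_nonzero' (K := K) (⟨y, hyQ⟩ : perp2 D w p)
    (fun h => hy0 (congrArg Subtype.val h))).1 (by omega) ⟨z, hz⟩
  have hyy : hf D y y ≠ 0 := fun h => hyz (by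
    rw [show z = c • y from (congrArg Subtype.val hc).symm, hf_smul_right, h, mul_zero])
  intro hxx
  refine hyy ?_
  rw [hy]
  simp only [hf_sub_left, hf_sub_right, hf_smul_left, hf_smul_right, hxx, hxw,
    (hf_eq_zero_comm D).1 hxw, hww]
  ring

/-- an isotropic partner orthogonal to an anisotropic vector -/
theorem exists_partner_perp {w x : Vec} (hw : w ≠ 0) (hww : hf D w w = 0) (hxw : hf D x w = 0)
    (hxx : hf D x x ≠ 0) : ∃ p, hf D p p = 0 ∧ hf D w p = 1 ∧ hf D x p = 0 := by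
  obtain ⟨p₀, hpp, hwp⟩ := exists_iso_partner D hw
  set p₁ := p₀ - (hf D p₀ x / hf D x x) • x with hp₁
  have h1 : hf D p₁ x = 0 := by rw [hp₁, hf_sub_left, hf_smul_left, div_mul_cancel₀ _ hxx, sub_self]
  have hwx : hf D w x = 0 := (hf_eq_zero_comm D).1 hxw
  have h2 : hf D w p₁ = 1 := by rw [hp₁, hf_sub_right, hf_smul_right, hwp, hwx, mul_zero, sub_zero]
  have h3 : hf D p₁ w = 1 := by rw [← hf_conj D, h2, map_one]
  obtain ⟨γ, hγ⟩ := exists_trace_hf D p₁
  refine ⟨p₁ + γ • w, ?_, ?_, ?_⟩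
  · simp only [hf_add_left, hf_add_right, hf_smul_left, hf_smul_right, hww, h2, h3]
    linear_combination hγ
  · rw [hf_add_right, hf_smul_right, h2, hww, mul_zero, add_zero]
  · rw [hf_add_right, hf_smul_right, (hf_eq_zero_comm D).1 h1, hxw, mul_zero, add_zero]

/-- the elements needed for the relations -/
def Fam (D : Data F q n K) (M : Subgroup (GL (Fin n) F)) (w : Fin n → F) (a : K) : Prop :=
  ∀ c : K, c + D.τ c = 0 → D.χ (c * a * D.τ a) = 0 → ∃ h ∈ M,
    ∀ k : K, (h : Matrix (Fin n) (Fin n) F) *ᵥ (k • w) = (k + ((1 : F) * D.χ (k * D.τ a)) • (c * a)) • w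

variable {M : Subgroup (GL (Fin n) F)}

/-- a one-dimensional part: change the line -/
theorem three_one (h3 : Module.finrank K (Fin n → F) = 3) (hMK : M ≤ SUn) (hM : LinM D M) {g : GLn}
    {w w' : Vec} (hp : IsPair D M g w w') (hmax : ∀ h v v', IsPair D M h v v' →
      Module.finrank F (sect (K := K) h v v') ≤ Module.finrank F (sect (K := K) g w w'))
    (ha : ∀ k : K, hf D (g •ᵥ (k • w)) w' = 0) (he : Module.finrank F (sect (K := K) g w w') ≤ 1) :
    ∃ h v, NF D M h v := by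
  obtain ⟨hgM, hw, hww, hw', hw'w', hne, hnt⟩ := hp
  obtain ⟨k₁, hk₁⟩ : ∃ k₁, k₁ ∉ sect (K := K) g w w' := by
    by_contra hc
    push Not at hc
    exact hnt (top_unique fun k _ => hc k)
  set x := g •ᵥ (k₁ • w) with hx
  have hxx := aniso D h3 hw' hw'w' (ha k₁) fun t ht => hk₁ (mem_sect.2 ⟨t, ht⟩)
  obtain ⟨p, hpp, hwp, hxp⟩ := exists_partner_perp D hw' hw'w' (ha k₁) hxx
  have hpw : hf D p w' = 1 := by rw [← hf_conj D, hwp, map_one]
  let A : K →ₗ[F] K := ((hl D p).restrictScalars F).comp (gMap g w)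
  have hA : ∀ k, A k = hf D (g •ᵥ (k • w)) p := fun k => rfl
  let α : K →ₗ[F] K := ((hl D w).restrictScalars F).comp (gMap g⁻¹ p)
  have hα : ∀ s, α s = hf D (g⁻¹ •ᵥ (s • p)) w := fun s => rfl
  have hadj : ∀ k s, D.χ (k * α s) = D.χ (s * D.τ (A (D.τ k))) := by
    intro k s
    have e := hf_image_chi D (hMK hgM) (g⁻¹ •ᵥ (s • p)) (D.τ k • w)
    rw [Max.mulVec_inv_cancel, hf_smul_left, hf_smul_right, D.hττ, ← hα, ← hf_conj D _ p, ← hA] at e
    exact e.symm
  obtain ⟨k₀, hk₀S, hk₀⟩ := (Submodule.ne_bot_iff _).1 hne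
  obtain ⟨t₀, ht₀⟩ := mem_sect.1 hk₀S
  have hA0 : A k₀ ≠ 0 := fun h => hk₀ <| gMap_inj g hw <| by
    rw [hA, ht₀, hf_smul_left, hwp, mul_one] at h
    rw [gMap_apply, ht₀, h, zero_smul, map_zero]
  obtain ⟨s₀, hs₀⟩ : ∃ s₀, α s₀ ≠ 0 := by
    by_contra hc
    push Not at hc
    refine hA0 ((map_eq_zero D.τ).1 (chi_ext D fun k => ?_))
    rw [← D.hττ k₀, ← hadj, hc, mul_zero, mul_zero]
  have hker : LinearMap.ker α ≠ ⊥ := fun h => by
    have hsur := LinearMap.injective_iff_surjective.1 (LinearMap.ker_eq_bot.1 h)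
    have hk10 : k₁ ≠ 0 := fun h0 => hk₁ (h0 ▸ Submodule.zero_mem _)
    obtain ⟨k, hk⟩ := exists_chi D (τ_ne_zero D hk10) 1
    obtain ⟨s, rfl⟩ := hsur k
    rw [mul_comm, hadj, D.hττ, hA, ← hx, hxp, map_zero, mul_zero, map_zero] at hk
    exact zero_ne_one hk
  obtain ⟨c, hc, hcA⟩ : ∃ c : K, c + D.τ c = 0 ∧ A (c * α s₀) ≠ 0 := by
    by_contra hcon
    push Not at hcon
    refine hA0 (LinearMap.mem_ker.1 ?_)
    rw [eq_top_of_skew_mul D (W := LinearMap.ker A) hs₀ fun c hc => LinearMap.mem_ker.2 (hcon c hc)]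
    exact Submodule.mem_top
  have hc0 : c ≠ 0 := fun h => hcA (by rw [h, zero_mul, map_zero])
  obtain ⟨h, hh, hhx⟩ := exists_conj D hM (inv_mem hgM) hww hc
  simp only [inv_inv] at hhx
  have hh' : ∀ s : K, h •ᵥ (s • p) = s • p + g •ᵥ ((c * α s) • w) := fun s => by rw [hhx, hα]
  have hsect : sect (K := K) h p p = LinearMap.ker α := by
    refine le_antisymm (fun s hs => ?_) fun s hs => mem_sect.2 ⟨s, by
      rw [hh', LinearMap.mem_ker.1 hs, mul_zero, zero_smul, mulVec_zero, add_zero]⟩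
    obtain ⟨t, ht⟩ := mem_sect.1 hs
    rw [hh'] at ht
    have e := congrArg (fun v => hf D v w') ht
    simp only [hf_add_left, hf_smul_left, ha, hpw, add_zero, mul_one] at e
    rw [← e, add_eq_left] at ht
    have e0 : c * α s = 0 := gMap_inj g hw (by rw [gMap_apply, ht, map_zero])
    exact LinearMap.mem_ker.2 ((mul_eq_zero.1 e0).resolve_left hc0)
  have hp0 : p ≠ 0 := fun h0 => by rw [h0, hf_zero_right] at hwp; exact zero_ne_one hwp
  have hmoved : hf D (h •ᵥ (s₀ • p)) p ≠ 0 := by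
    rwa [hh', hf_add_left, hf_smul_left, hpp, mul_zero, zero_add, ← hA]
  have hp2 : IsPair D M h p p := ⟨hh, hp0, hpp, hp0, hpp, hsect ▸ hker, fun e => hs₀
    (LinearMap.mem_ker.1 (hsect ▸ e ▸ Submodule.mem_top : s₀ ∈ LinearMap.ker α))⟩
  refine ⟨h, p, hp2, fun s hs => ?_, fun h' v v' hv => ?_, s₀, hmoved⟩
  · rw [hsect, LinearMap.mem_ker] at hs
    rw [hh', hs, mul_zero, zero_smul, mulVec_zero, add_zero]
  · exact ((hmax _ _ _ hv).trans he).trans (hsect ▸ Submodule.one_le_finrank_iff.2 hker)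

/-- a two-dimensional part, normalised -/
theorem three_two_aux (h3 : Module.finrank K (Fin n → F) = 3) (hM : LinM D M) {g : GLn}
    {w : Vec} (hgM : g ∈ M) (hw : w ≠ 0) (hww : hf D w w = 0) {S : Submodule F K} {k₁ : K}
    (hS : Module.finrank F S + 1 = Module.finrank F K) (hk₁ : k₁ ∉ S)
    (hfix : ∀ k ∈ S, g •ᵥ (k • w) = k • w) (hout : ∀ t : K, g •ᵥ (k₁ • w) ≠ t • w)
    (ha : hf D (g •ᵥ (k₁ • w)) w = 0) : ∃ a : K, a ≠ 0 ∧ Fam D M w a := by
  obtain ⟨φ, hφ1, hφS⟩ := Submodule.exists_dual_map_eq_bot_of_notMem (p := S) hk₁ inferInstance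
  obtain ⟨b, hb⟩ := (dual D).surjective ((φ k₁)⁻¹ • φ)
  have hb' : ∀ k, D.χ (b * k) = (φ k₁)⁻¹ * φ k := fun k => by rw [← dual_apply, hb]; rfl
  have hker : LinearMap.ker φ = S := by
    have hle : S ≤ LinearMap.ker φ := LinearMap.le_ker_iff_map.2 hφS
    refine (Submodule.eq_of_le_of_finrank_le hle ?_).symm
    have hlt : LinearMap.ker φ ≠ ⊤ := fun h => hφ1 (LinearMap.mem_ker.1 (h ▸ Submodule.mem_top))
    have := Submodule.finrank_lt hlt
    omega
  refine ⟨D.τ b, τ_ne_zero D fun h0 => ?_, fun c hc hca => ?_⟩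
  · have := hb' k₁
    rw [h0, zero_mul, map_zero, inv_mul_cancel₀ hφ1] at this
    exact zero_ne_one this
  rw [D.hττ] at hca
  simp only [D.hττ, one_mul]
  set s := c * D.τ b
  have hsS : s ∈ S := by
    rw [mul_comm, hb'] at hca
    exact hker ▸ LinearMap.mem_ker.2 ((mul_eq_zero.1 hca).resolve_left (inv_ne_zero hφ1))
  set x := g •ᵥ (k₁ • w) - k₁ • w with hx
  have hg : ∀ k : K, g •ᵥ (k • w) = k • w + D.χ (k * b) • x := by
    intro k
    have hm : k - D.χ (k * b) • k₁ ∈ S := hker ▸ LinearMap.mem_ker.2 (by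
      rw [map_sub, map_smul, mul_comm, hb', smul_eq_mul, mul_right_comm, inv_mul_cancel₀ hφ1, one_mul, sub_self])
    have e := hfix _ hm
    rw [sub_smul, mulVec_sub, smul_assoc, mulVec_smul] at e
    rw [hx, smul_sub]
    linear_combination (norm := module) e
  have hxw : hf D x w = 0 := by rw [hx, hf_sub_left, ha, hf_smul_left, hww, mul_zero, sub_zero]
  have hxx := aniso D h3 hw hww hxw fun t ht => hout (t + k₁) (by rw [add_smul, ← ht, hx, sub_add_cancel])
  obtain ⟨E, hE, hEx, hEK⟩ := exists_eichler D (u := D.τ (s / hf D x x) • x) hww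
    (by rw [hf_smul_left, hxw, mul_zero])
  have hwE : E •ᵥ w = w := by
    rw [hEx w hww, hf_smul_right, (hf_eq_zero_comm D).1 hxw, mul_zero, zero_smul, add_zero]
  have hxE : E •ᵥ x = x + s • w := by
    rw [hEx x hxw, hf_smul_right, D.hττ, div_mul_cancel₀ _ hxx]
  refine ⟨g⁻¹ * E * g, mul_mem (mul_mem (inv_mem hgM) (hM E hE hEK)) hgM, fun k => ?_⟩
  refine Max.mulVec_inj g ?_
  rw [mulVec_mul_GL, mulVec_mul_GL, Max.mulVec_inv_cancel, hg, mulVec_add, hEK, hwE, mulVec_smul, hxE,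
    add_smul, mulVec_add, hg, smul_assoc (D.χ (k * b)), mulVec_smul, hfix s hsS, smul_add]
  abel

/-- step B in dimension three -/
theorem stepB_three (h3 : Module.finrank K (Fin n → F) = 3) (hr : Module.finrank F K = 3) (hMK : M ≤ SUn)
    (hM : LinM D M) {g : GLn} {w w' : Vec} (hp : IsPair D M g w w') (hmax : ∀ h v v', IsPair D M h v v' →
      Module.finrank F (sect (K := K) h v v') ≤ Module.finrank F (sect (K := K) g w w'))
    (ha : ∀ k : K, hf D (g •ᵥ (k • w)) w' = 0) :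
    (∃ h v, NF D M h v) ∨ ∃ v a, v ≠ 0 ∧ hf D v v = 0 ∧ a ≠ 0 ∧ Fam D M v a := by
  by_cases he : Module.finrank F (sect (K := K) g w w') ≤ 1
  · exact Or.inl (three_one D h3 hMK hM hp hmax ha he)
  obtain ⟨hgM, hw, hww, hw', hw'w', hne, hnt⟩ := hp
  have hlt := Submodule.finrank_lt hnt
  obtain ⟨k₁, hk₁⟩ : ∃ k₁, k₁ ∉ sect (K := K) g w w' := by
    by_contra hc
    push Not at hc
    exact hnt (top_unique fun k _ => hc k)
  obtain ⟨s, hs⟩ : ∃ s, s ∉ eSet (K := K) g w w' := by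
    by_contra hc
    push Not at hc
    refine hnt (Submodule.eq_top_of_finrank_eq ?_)
    rw [← finrank_eSet g hw hw', show eSet (K := K) g w w' = ⊤ from top_unique fun k _ => hc k, finrank_top]
  set x := g •ᵥ (k₁ • w) with hx
  have hxx := aniso D h3 hw' hw'w' (ha k₁) fun t ht => hk₁ (mem_sect.2 ⟨t, ht⟩)
  obtain ⟨E, hE, hEx, hEK⟩ := exists_eichler D (u := D.τ (s / hf D x x) • x) hw'w'
    (by rw [hf_smul_left, ha k₁, mul_zero])
  have hxE : E •ᵥ x = x + s • w' := by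
    rw [hEx x (ha k₁), hf_smul_right, D.hττ, div_mul_cancel₀ _ hxx]
  have hwE : E •ᵥ w' = w' := by
    rw [hEx w' hw'w', hf_smul_right, (hf_eq_zero_comm D).1 (ha k₁), mul_zero, zero_smul, add_zero]
  set h := g⁻¹ * E * g with hh_def
  have hh : h ∈ M := mul_mem (mul_mem (inv_mem hgM) (hM E hE hEK)) hgM
  have hhx : ∀ v, h •ᵥ v = g⁻¹ •ᵥ (E •ᵥ (g •ᵥ v)) := fun v => by rw [hh_def, mulVec_mul_GL, mulVec_mul_GL]
  have hfix : ∀ k ∈ sect (K := K) g w w', h •ᵥ (k • w) = k • w := fun k hk => by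
    obtain ⟨t, ht⟩ := mem_sect.1 hk
    rw [hhx, ht, hEK, hwE, ← ht, Max.inv_mulVec_cancel]
  have hk₁' : h •ᵥ (k₁ • w) = k₁ • w + g⁻¹ •ᵥ (s • w') := by
    rw [hhx, ← hx, hxE, mulVec_add, hx, Max.inv_mulVec_cancel]
  refine Or.inr ⟨w, ?_⟩
  obtain ⟨a, ha0, hfam⟩ := three_two_aux D h3 hM hh hw hww (S := sect (K := K) g w w') (k₁ := k₁)
    (by omega) hk₁ hfix (fun t ht => hs (mem_eSet.2 ⟨t - k₁, by
      rw [hk₁'] at ht
      rw [sub_smul, ← eq_sub_of_add_eq' ht, Max.mulVec_inv_cancel]⟩))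
    (by
      rw [hk₁', hf_add_left, hf_smul_left, hww, mul_zero, zero_add]
      refine chi_ext D fun k => ?_
      have e := hf_image_chi D (hMK hgM) (g⁻¹ •ᵥ (s • w')) (D.τ k • w)
      rw [Max.mulVec_inv_cancel, hf_smul_left, hf_smul_right, D.hττ,
        (hf_eq_zero_comm D).1 (ha (D.τ k)), mul_zero, map_zero] at e
      rw [mul_zero, map_zero, e])
  exact ⟨a, hw, hww, ha0, hfam⟩

end Cfsg.Agent.Forms.Max.UnitExtField
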