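import Mathlib
import Cfsg.Agent.Lib.Forms.Max.UnitExtField.Core
import Cfsg.Agent.Lib.Forms.Max.UnitExtField.Three
import Cfsg.Agent.Lib.Forms.Max.Unitary

/-!
# Normalisers of adjoint-closed subfields of odd prime degree are maximal in the special unitary group
-/

set_option autoImplicit false
set_option linter.unusedSectionVars false

namespace Cfsg.Agent.Forms.Max.UnitExtField

open Matrix Cfsg.Agent.Classical.Unitary

variable {F : Type*} [Field F] [Fintype F] {q n : ℕ} {K : Type*} [Field K] [Algebra F K] [FiniteDimensional F K]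
  [Module K (Fin n → F)] [IsScalarTower F K (Fin n → F)]

local notation "Vec" => (Fin n → F)
local notation "GLn" => GL (Fin n) F
local notation "H" => Cfsg.hermForm n F q
local notation "SUn" => (Cfsg.GU n F q ⊓ Cfsg.Geo.specialLinear (Fin n) F)
local notation:80 g " •ᵥ " x:81 => Matrix.mulVec (Units.val g) x

variable (D : Data F q n K)

include D in
theorem exists_alg_eq {x : K} (hx : x ^ Fintype.card F = x) : ∃ s : F, algebraMap F K s = x := by
  classical
  haveI := finite_K D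
  haveI : Fintype K := Fintype.ofFinite K
  by_contra hc
  push Not at hc
  have h0 : (Polynomial.X ^ Fintype.card F - Polynomial.X : Polynomial K) ≠ 0 :=
    FiniteField.X_pow_card_sub_X_ne_zero K Fintype.one_lt_card
  have hsub : insert x (Finset.univ.image (algebraMap F K)) ⊆
      (Polynomial.X ^ Fintype.card F - Polynomial.X : Polynomial K).roots.toFinset := by
    intro y hy
    rw [Multiset.mem_toFinset, Polynomial.mem_roots h0]
    rw [Finset.mem_insert, Finset.mem_image] at hy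
    rcases hy with rfl | ⟨s, -, rfl⟩
    · simp [hx]
    · simp [← map_pow, FiniteField.pow_card]
  have h1 := (Finset.card_le_card hsub).trans ((Multiset.toFinset_card_le _).trans (Polynomial.card_roots' _))
  rw [Finset.card_insert_of_notMem (by simp [hc]), Finset.card_image_of_injective _ (algebraMap F K).injective,
    Finset.card_univ, FiniteField.X_pow_card_sub_X_natDegree_eq K Fintype.one_lt_card] at h1
  omega

theorem pow_bound : ∀ (q r : ℕ), 2 ≤ q → 3 ≤ r → (3 ≤ q ∨ 5 ≤ r) → r * (q + 1) < q ^ r + 1 := by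
  intro q r hq hr h
  rcases h with h | h
  · induction r, hr using Nat.le_induction with
    | base => nlinarith [Nat.mul_le_mul h h]
    | succ r hr ih =>
      rw [pow_succ]
      nlinarith [Nat.mul_le_mul_left (q ^ r) hq, Nat.mul_le_mul_right (q + 1) hr]
  · induction r, h using Nat.le_induction with
    | base => nlinarith [Nat.mul_le_mul hq hq, Nat.mul_le_mul (Nat.mul_le_mul hq hq) (Nat.mul_le_mul hq hq)]
    | succ r h5 ih =>
      have := ih (by omega)
      rw [pow_succ]
      nlinarith [Nat.mul_le_mul_left (q ^ r) hq, Nat.mul_le_mul_right (q + 1) h5]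

include D in
theorem exists_psi : ∃ g : K, Scal D g ∧ ∀ s : F, algebraMap F K s ≠ g / D.τ g := by
  haveI := finite_K D
  haveI : Fintype K := Fintype.ofFinite K
  obtain ⟨ω, hω⟩ := exists_moved_scalar D.hF
  obtain hd | hd : Module.finrank K (Fin n → F) = 2 ∨ 3 ≤ Module.finrank K (Fin n → F) := by
    rcases D.hd with h | h | ⟨h, -⟩ <;> omega
  swap
  · obtain ⟨l, hl, hlF⟩ : ∃ l ∈ fixL D, ∀ s : F, algebraMap F K s ≠ l := by
      by_contra hc
      push Not at hc
      have hb : (⊥ : Subalgebra F K) = ⊤ := top_unique fun k _ => by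
        obtain ⟨u, hu, v, hv, rfl⟩ := exists_split D hω k
        obtain ⟨s, hs⟩ := hc u hu
        obtain ⟨s', hs'⟩ := hc v hv
        exact Algebra.mem_bot.2 ⟨s + ω * s', by rw [map_add, map_mul, hs, hs']⟩
      have := Subalgebra.bot_eq_top_iff_finrank_eq_one.1 hb
      have := three_le_finrank D
      omega
    set z := l + algebraMap F K ω with hz
    have hz0 : z ≠ 0 := fun h => hlF (-ω) (by rw [map_neg]; linear_combination -h)
    have hscal : Scal D z := by
      rcases hd.eq_or_lt with h | h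
      · exact scal_of_three D h.symm hz0
      · exact scal_of_four D h hz0
    refine ⟨z, hscal, fun s hs => ?_⟩
    rw [eq_div_iff (τ_ne_zero D hz0), hz, map_add D.τ, (mem_fixL D).1 hl, D.hτF] at hs
    by_cases h1 : s = 1
    · rw [h1, map_one, one_mul, add_right_inj] at hs
      exact hω ((algebraMap F K).injective hs)
    · refine hlF ((s * ω ^ q - ω) / (1 - s)) ?_
      rw [map_div₀, map_sub, map_sub, map_mul, map_one,
        div_eq_iff (by rw [← map_one (algebraMap F K), ← map_sub]; exact (map_ne_zero _).2 (sub_ne_zero.2 (Ne.symm h1)))]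
      linear_combination hs
  by_contra hc
  push Not at hc
  set r := Module.finrank F K with hr
  have hr0 : 0 < r := D.hr.pos
  have hq := HermStd.one_lt_q D.hF
  have hall : ∀ z : K, z ≠ 0 → z ^ (r * (q + 1)) ∈ fixL D := by
    intro z hz
    have hτz := τ_ne_zero D hz
    set ψ := z / D.τ z with hψ
    have hψ0 : ψ ≠ 0 := div_ne_zero hz hτz
    have hN0 : Algebra.norm F ψ ≠ 0 := Algebra.norm_ne_zero_iff.2 hψ0
    have hratio : z ^ (Fintype.card F - 1) / D.τ (z ^ (Fintype.card F - 1)) = ψ ^ (Fintype.card F - 1) := by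
      rw [hψ, div_pow, map_pow]
    have hnorm : Algebra.norm F (ψ ^ (Fintype.card F - 1)) = 1 := by
      rw [map_pow, FiniteField.pow_card_sub_one_eq_one _ hN0]
    obtain ⟨f, hf'⟩ := hc _ (scal_of_norm D (pow_ne_zero _ hz) (by rw [hratio, hnorm]))
    rw [hratio] at hf'
    have hfr : f ^ r = 1 := by rw [hr, ← Algebra.norm_algebraMap (S := K) f, hf', hnorm]
    have hfix : (ψ ^ r) ^ Fintype.card F = ψ ^ r := by
      have e : (ψ ^ r) ^ (Fintype.card F - 1) = 1 := by
        rw [← pow_mul, mul_comm, pow_mul, ← hf', ← map_pow, hfr, map_one]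
      conv_lhs => rw [← Nat.sub_add_cancel (Fintype.card_pos (α := F)), pow_succ, e, one_mul]
    obtain ⟨s, hs⟩ := exists_alg_eq D hfix
    have hone : ψ ^ (r * (q + 1)) = 1 := by
      have e2 : D.τ ψ = ψ⁻¹ := by rw [hψ, map_div₀, D.hττ, inv_div]
      have e3 := congrArg D.τ hs
      rw [D.hτF, map_pow D.τ, e2] at e3
      rw [pow_mul, ← hs, ← map_pow, pow_succ, map_mul, e3, hs, ← mul_pow, inv_mul_cancel₀ hψ0, one_pow]
    rw [hψ, div_pow, div_eq_one_iff_eq (pow_ne_zero _ hτz)] at hone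
    rw [mem_fixL, map_pow]
    exact hone.symm
  haveI : Fintype (fixL D) := Fintype.ofFinite _
  obtain ⟨γ, hγ⟩ := IsCyclic.exists_ofOrder_eq_natCard (α := Kˣ)
  have hone : γ ^ (r * (q + 1) * (q ^ r - 1)) = 1 := by
    refine Units.ext ?_
    have h1 : (⟨(γ : K) ^ (r * (q + 1)), hall _ γ.ne_zero⟩ : fixL D) ^ (q ^ r - 1) = 1 := by
      have := FiniteField.pow_card_sub_one_eq_one (⟨(γ : K) ^ (r * (q + 1)), hall _ γ.ne_zero⟩ : fixL D)
        (fun h => pow_ne_zero _ γ.ne_zero (congrArg Subtype.val h))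
      rwa [← Nat.card_eq_fintype_card, natCard_fixL D, ← hr] at this
    have h2 := congrArg Subtype.val h1
    rw [SubmonoidClass.coe_pow, ← pow_mul] at h2
    simpa using h2
  have hdvd := orderOf_dvd_of_pow_eq_one hone
  rw [hγ, Nat.card_units, Module.natCard_eq_pow_finrank (K := F) (V := K), Nat.card_eq_fintype_card, D.hF,
    ← hr, ← pow_mul, mul_comm 2 r, pow_mul] at hdvd
  have hqr : 1 < q ^ r := Nat.one_lt_pow hr0.ne' hq
  have hle := Nat.le_of_dvd (Nat.mul_pos (Nat.mul_pos hr0 (by omega)) (by omega)) hdvd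
  have hsq : (q ^ r) ^ 2 - 1 = (q ^ r + 1) * (q ^ r - 1) := by
    have := Nat.sq_sub_sq (q ^ r) 1
    rwa [one_pow] at this
  rw [hsq] at hle
  have hb := pow_bound q r hq (three_le_finrank D) (by rcases D.hsmall with h | h | h <;> omega)
  have := Nat.le_of_mul_le_mul_right hle (by omega)
  omega

variable {M : Subgroup (GL (Fin n) F)}

/-- all multiples are centres -/
def Good (D : Data F q n K) (M : Subgroup (GL (Fin n) F)) (w : Fin n → F) : Prop :=
  ∀ z : K, z • w ∈ Unitary.centres q M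

theorem good_of_rels (hM : LinM D M) {w : Vec} (hw : w ≠ 0) (hww : hf D w w = 0) {a : K} {f ε t : F}
    (ha : a ≠ 0) (hf0 : f ≠ 0) (hε0 : ε ≠ 0) (hε : ε + ε ^ q = 0) (ht : t + t ^ q = 1)
    (hR : Rels D M hww a f ε t) : Good D M w := by
  obtain ⟨p, hchar⟩ := CharP.exists F
  haveI := hchar
  haveI : Fact p.Prime := ⟨CharP.char_is_prime F p⟩
  obtain ⟨g₁, hg₁, hψ⟩ := exists_psi D
  intro z
  refine ⟨by rw [H_eq D, hf_smul_left, hf_smul_right, hww, mul_zero, mul_zero, map_zero], fun t' c hc ht' => ?_⟩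
  obtain ⟨m, hm, hmx⟩ := (mem_uGrp D hww).1
    (rMap_mem D (p := p) hM hw hww ha hf0 hε0 hε ht hR hg₁ hψ z ((-(t * c)) • z))
  have e : t' = m := gl_ext fun x => by
    rw [ht', hmx]
    congr 1
    have hχ : H x (z • w) = D.χ (hf D x w * D.τ z) := by rw [H_eq D, hf_smul_right, mul_comm]
    rw [hχ, rMap_apply, τ_smul, mul_smul_comm, map_smul, smul_eq_mul, smul_smul, ← sub_smul]
    rw [← smul_assoc]
    congr 2
    have e0 : (-(t * c)) ^ q = t ^ q * c := by
      have h := map_neg (HermStd.qHom D.hF) (t * c)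
      rw [HermStd.qHom_apply, HermStd.qHom_apply, mul_pow t c, eq_neg_of_add_eq_zero_right hc] at h
      rw [h]; ring
    rw [e0]
    linear_combination (-(c * D.χ (hf D x w * D.τ z))) * ht
  exact e ▸ hm

theorem good_of_NF (hM : LinM D M) (hMK : M ≤ SUn) {g : GLn} {w : Vec} (hN : NF D M g w) : Good D M w := by
  obtain ⟨a, f, v₀, ha, hf0, hv, hshape⟩ := exists_shape D hN hM hMK
  obtain ⟨ε, hε0, hε⟩ := exists_skew D
  obtain ⟨t, ht⟩ := exists_trace_one D
  exact good_of_rels D hM hN.pair.hw hN.pair.hww ha hf0 hε0 hε ht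
    (rels_of_shape D hM hN.pair.mem hMK hN.pair.hww hv hshape hε ht)

theorem exists_good (hM : LinM D M) (hMK : M ≤ SUn) {g : GLn} (hgM : g ∈ M)
    (hg : ¬ ∀ k : K, ∃ k' : K, ∀ x : Vec, g •ᵥ (k • x) = k' • (g •ᵥ x)) :
    ∃ w, w ≠ 0 ∧ hf D w w = 0 ∧ Good D M w := by
  obtain ⟨h, w, hN⟩ | ⟨h, v, v', hp, hmax, ha, h3⟩ := exists_NF D hMK hM hgM hg
  · exact ⟨w, hN.pair.hw, hN.pair.hww, good_of_NF D hM hMK hN⟩
  have hr : Module.finrank F K = 3 := by rcases D.hd with h' | h' | ⟨-, h'⟩ <;> omega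
  obtain ⟨h, w, hN⟩ | ⟨w, a, hw, hww, ha0, hfam⟩ := stepB_three D h3 hr hMK hM hp hmax ha
  · exact ⟨w, hN.pair.hw, hN.pair.hww, good_of_NF D hM hMK hN⟩
  obtain ⟨ε, hε0, hε⟩ := exists_skew D
  obtain ⟨t, ht⟩ := exists_trace_one D
  exact ⟨w, hw, hww, good_of_rels D hM hw hww ha0 one_ne_zero hε0 hε ht (rels_of_fam D hM hMK hww hfam hε ht)⟩

theorem good_step (hM : LinM D M) (hMK : M ≤ SUn) {w v : Vec} (hww : hf D w w = 0) (hvv : hf D v v = 0)
    (hwv : hf D w v ≠ 0) (hw : Good D M w) : Good D M v := by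
  obtain ⟨ε, hε0, hε⟩ := exists_skew D
  set c := algebraMap F K ε with hc_def
  have hc0 : c ≠ 0 := (map_ne_zero _).2 hε0
  have hc : c + D.τ c = 0 := by rw [τ_skew D hε, add_neg_cancel]
  set z := D.τ (hf D w v)⁻¹ with hz
  have hz0 : z ≠ 0 := τ_ne_zero D (inv_ne_zero hwv)
  obtain ⟨p, hp, hpp, hwp⟩ : ∃ p, p = z • v ∧ hf D p p = 0 ∧ hf D w p = 1 :=
    ⟨_, rfl, by rw [hf_smul_left, hf_smul_right, hvv, mul_zero, mul_zero],
      by rw [hf_smul_right, hz, D.hττ, inv_mul_cancel₀ hwv]⟩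
  have hpw : hf D p w = 1 := by rw [← hf_conj D, hwp, map_one]
  obtain ⟨g₁, hg₁, hg₁x, hg₁K⟩ := exists_rt D hpp hc
  obtain ⟨g₂, hg₂, hg₂x, hg₂K⟩ := exists_rt D hww (c := -c⁻¹) (by
    rw [map_neg, map_inv₀, τ_skew D hε, inv_neg, neg_neg, neg_add_cancel])
  have himg : (g₂ * g₁) •ᵥ w = c • p := by
    rw [mulVec_mul_GL, hg₁x, hwp, mul_one, hg₂x, hf_add_left, hf_smul_left, hww, hpw, zero_add, mul_one,
      neg_mul, inv_mul_cancel₀ hc0, neg_smul, one_smul]
    abel
  intro s
  have hmem : g₂ * g₁ ∈ M := mul_mem (hM _ hg₂ hg₂K) (hM _ hg₁ hg₁K)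
  have h := Unitary.centres_map D.hF hMK hmem (hw (s / (c * z)))
  rwa [mulVec_mul_GL, hg₁K, hg₂K, ← mulVec_mul_GL, himg, hp, smul_smul, smul_smul, mul_assoc,
    div_mul_cancel₀ _ (mul_ne_zero hc0 hz0)] at h

theorem centres_zero : (0 : Fin n → F) ∈ Unitary.centres q M := by
  refine ⟨H_zero_left _, fun g c _ hg => ?_⟩
  have : g = 1 := gl_ext fun x => by simp [hg]
  exact this ▸ one_mem M

theorem sun_le (hM : LinM D M) (hMK : M ≤ SUn) {g : GLn} (hgM : g ∈ M)
    (hg : ¬ ∀ k : K, ∃ k' : K, ∀ x : Vec, g •ᵥ (k • x) = k' • (g •ᵥ x)) : SUn ≤ M := by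
  obtain ⟨w, hw0, hww, hw⟩ := exists_good D hM hMK hgM hg
  have hgood : ∀ v : Vec, hf D v v = 0 → v ≠ 0 → Good D M v := by
    intro v hvv hv
    obtain ⟨u, huu, h1, h2⟩ := exists_common D hw0 hv
    exact good_step D hM hMK huu hvv (fun h0 => h2 ((hf_eq_zero_comm D).1 h0))
      (good_step D hM hMK hww huu h1 hw)
  have hall : ∀ v : Vec, H v v = 0 → v ∈ Unitary.centres q M := by
    intro v hv
    by_cases hv0 : v = 0
    · rw [hv0]; exact centres_zero
    by_cases hvv : hf D v v = 0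
    · simpa using hgood v hvv hv0 1
    set l := hf D v v
    have hl : l ∈ fixL D := hf_self_mem D v
    have hχl : D.χ l = 0 := by rw [← H_eq D, hv]
    obtain ⟨w', hw'w', hvw⟩ := exists_iso_partner D hv0
    obtain ⟨ε, hε0, hε⟩ := exists_skew D
    obtain ⟨t, ht⟩ := exists_trace_one D
    obtain ⟨e, he, hχe⟩ := exists_chi_fix D (ν := (1 : K)) one_ne_zero
    rw [mul_one] at hχe
    have hre : D.χ e ^ q = D.χ e := chi_real D he
    set e₁ := (D.χ e)⁻¹ • e with he₁
    have he₁L : D.τ e₁ = e₁ := by rw [he₁, τ_smul, inv_pow, hre, (mem_fixL D).1 he]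
    have hχe₁ : D.χ e₁ = 1 := by rw [he₁, map_smul, smul_eq_mul, inv_mul_cancel₀ hχe]
    set z := (t / ε) • l + e₁ with hz
    have hχz : D.χ (D.τ z) = 1 := by
      rw [D.hχτ, hz, map_add, map_smul, hχl, smul_zero, zero_add, hχe₁, one_pow]
    set b := ε • z with hb
    have hb' : b + D.τ b = l := by
      rw [hb, hz, smul_add, smul_smul, mul_div_cancel₀ _ hε0, map_add D.τ, τ_smul, τ_smul,
        (mem_fixL D).1 hl, he₁L, eq_neg_of_add_eq_zero_right hε, neg_smul]
      have e0 : t • l + (t ^ q) • l = l := by rw [← add_smul, ht, one_smul]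
      linear_combination e0
    obtain ⟨p, hp⟩ : ∃ p, p = v - b • w' := ⟨_, rfl⟩
    have hwv : hf D w' v = 1 := by rw [← hf_conj D, hvw, map_one]
    have hpp : hf D p p = 0 := by
      rw [hp]
      simp only [hf_sub_left, hf_sub_right, hf_smul_left, hf_smul_right, hw'w', hvw, hwv]
      linear_combination -hb'
    have hpw : hf D p w' = 1 := by rw [hp, hf_sub_left, hf_smul_left, hw'w', hvw, mul_zero, sub_zero]
    have hp0 : p ≠ 0 := fun h0 => by rw [h0, hf_zero_left] at hpw; exact zero_ne_one hpw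
    have hw'0 : w' ≠ 0 := fun h0 => by rw [h0, hf_zero_right] at hvw; exact zero_ne_one hvw
    have hzc := hgood w' hw'w' hw'0 z
    obtain ⟨T, hT, hTx⟩ := Unitary.exists_tv D.hF hzc.1 hε
    have hTp : T •ᵥ p = v := by
      rw [hTx, H_eq D, hf_smul_right, hpw, mul_one, hχz, mul_one, ← smul_assoc, ← hb, hp, sub_add_cancel]
    have hpc : p ∈ Unitary.centres q M := by simpa using hgood p hpp hp0 1
    exact hTp ▸ Unitary.centres_map D.hF hMK (hzc.2 T ε hε hTx) hpc
  have h6 : 6 ≤ n := by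
    haveI := finite_module D
    have e := Module.finrank_mul_finrank F K Vec
    rw [Module.finrank_fintype_fun_eq_card, Fintype.card_fin] at e
    have := three_le_finrank D
    rcases D.hd with h | h | ⟨h, -⟩ <;> nlinarith
  exact Unitary.SUn_le_of_tv D.hF (by omega) (by omega) fun g v c hv hc hg => (hall v hv).2 g c hc hg

end Cfsg.Agent.Forms.Max.UnitExtField
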