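import Mathlib
import Cfsg.Agent.Lib.Forms.Max.UnitExtField.Normalizer

/-!
# Normalisers of adjoint-closed subfields of odd prime degree: maximality
-/

set_option autoImplicit false
set_option linter.unusedSectionVars false

namespace Cfsg.Agent.Forms.Max.UnitExtNormalizer

open Matrix Cfsg.Agent.Classical.Unitary Cfsg.Agent.Forms.Max.UnitExtField

theorem maximal_general {F : Type*} [Field F] [Fintype F] (q : ℕ) (hF : Fintype.card F = q ^ 2) (n r d : ℕ)
    (hr : r.Prime) (hr2 : r ≠ 2) (hn : n = r * d) (hd : d = 2 ∨ 4 ≤ d ∨ (d = 3 ∧ r = 3))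
    (hsmall : 3 ≤ d ∨ 3 ≤ q ∨ 5 ≤ r)
    (K : Subalgebra F (Matrix (Fin n) (Fin n) F)) (hK : Cfsg.Geo.IsFieldSubalgebra r K)
    (hadj : Cfsg.Geo.IsAdjointClosedFor (Cfsg.hermForm n F q) K) :
    Cfsg.Geo.IsMaximalIn (Cfsg.GU n F q ⊓ Cfsg.Geo.specialLinear (Fin n) F)
      (Cfsg.Geo.subalgebraNormalizer K ⊓ (Cfsg.GU n F q ⊓ Cfsg.Geo.specialLinear (Fin n) F)) := by
  classical
  have hn0 : 0 < n := by
    have := hr.pos
    rcases hd with h | h | ⟨h, -⟩ <;> subst hn <;> exact Nat.mul_pos this (by omega)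
  haveI : Nonempty (Fin n) := ⟨⟨0, hn0⟩⟩
  have hfield : IsField K :=
    { exists_pair_ne := ⟨0, 1, zero_ne_one⟩
      mul_comm := fun x y => Subtype.ext (hK.comm x.1 x.2 y.1 y.2)
      mul_inv_cancel := fun {x} hx => by
        obtain ⟨y, hy, e⟩ := hK.inv x.1 x.2 fun h => hx (Subtype.ext h)
        exact ⟨⟨y, hy⟩, Subtype.ext e⟩ }
  letI : Field K := hfield.toField
  haveI : FiniteDimensional F K := Module.finite_of_finrank_pos (by rw [hK.finrank_eq]; exact hr.pos)
  letI : Module K (Fin n → F) :=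
    { smul := fun k x => (k : Matrix (Fin n) (Fin n) F) *ᵥ x
      one_smul := fun x => Matrix.one_mulVec x
      mul_smul := fun k k' x => (Matrix.mulVec_mulVec x _ _).symm
      smul_zero := fun k => Matrix.mulVec_zero _
      smul_add := fun k x y => Matrix.mulVec_add _ x y
      add_smul := fun k k' x => Matrix.add_mulVec _ _ x
      zero_smul := fun x => Matrix.zero_mulVec x }
  haveI : IsScalarTower F K (Fin n → F) := ⟨fun s k x => Matrix.smul_mulVec s _ x⟩
  have hdim : Module.finrank F K = r := hK.finrank_eq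
  -- the adjoint
  have hex : ∀ k : K, ∃ k' : K, ∀ x y : Fin n → F,
      Cfsg.hermForm n F q (k • x) y = Cfsg.hermForm n F q x (k' • y) := fun k => by
    obtain ⟨k', hk', e⟩ := hadj k.1 k.2
    exact ⟨⟨k', hk'⟩, e⟩
  choose τ hτ using hex
  have huniq : ∀ {a b : K}, (∀ x y : Fin n → F,
      Cfsg.hermForm n F q x (a • y) = Cfsg.hermForm n F q x (b • y)) → a = b := by
    intro a b h
    refine Subtype.ext (Matrix.ext_of_mulVec_single fun i => ?_)
    refine sub_eq_zero.1 (eq_zero_of_H hF fun x => (H_eq_zero_comm hF).1 ?_)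
    rw [H_sub_right hF, sub_eq_zero]
    exact h x _
  let τh : K →+* K :=
    { toFun := τ
      map_one' := huniq fun x y => by rw [← hτ, one_smul, one_smul]
      map_mul' := fun a b => huniq fun x y => by
        rw [← hτ, mul_smul, hτ, hτ, ← mul_smul, mul_comm]
      map_zero' := huniq fun x y => by rw [← hτ, zero_smul, zero_smul, H_zero_left, H_zero_right hF]
      map_add' := fun a b => huniq fun x y => by
        rw [← hτ, add_smul, add_smul, H_add_left, H_add_right hF, hτ, hτ] }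
  have hττ : ∀ k, τ (τ k) = k := fun k => huniq fun x y => by
    rw [← hτ, ← H_conj hF, ← hτ, H_conj hF]
  have hτF : ∀ a : F, τ (algebraMap F K a) = algebraMap F K (a ^ q) := fun a => huniq fun x y => by
    rw [← hτ, algebraMap_smul, algebraMap_smul, H_smul_left, H_smul_right, pow_qq hF]
  obtain ⟨χ, hχ, hχτ⟩ : ∃ χ : K →ₗ[F] F, χ ≠ 0 ∧ ∀ k, χ (τ k) = χ k ^ q := by
    let e := Module.finBasisOfFinrankEq F K hdim
    set χ₀ := e.coord ⟨0, hr.pos⟩
    obtain ⟨w, hw⟩ := exists_moved_scalar hF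
    let mk : F → (K →ₗ[F] F) := fun c =>
      { toFun := fun k => c * χ₀ k + (c * χ₀ (τh k)) ^ q
        map_add' := fun a b => by
          simp only [map_add, mul_add, Forms.HermStd.add_pow_q hF]
          ring
        map_smul' := fun s a => by
          simp only [Algebra.smul_def s a, map_mul, show τh (algebraMap F K s) = algebraMap F K (s ^ q) from hτF s,
            RingHom.id_apply, smul_eq_mul]
          simp only [← Algebra.smul_def, map_smul, smul_eq_mul, mul_pow, pow_qq hF]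
          ring }
    have hmk : ∀ c k, mk c k = c * χ₀ k + (c * χ₀ (τh k)) ^ q := fun _ _ => rfl
    have hsym : ∀ c k, mk c (τ k) = mk c k ^ q := fun c k => by
      rw [hmk, hmk, Forms.HermStd.add_pow_q hF, pow_qq hF, show τh (τ k) = k from hττ k, add_comm]
      rfl
    by_cases h1 : mk 1 = 0
    · refine ⟨mk w, fun h => hw ?_, hsym w⟩
      have e0 := LinearMap.congr_fun h (e ⟨0, hr.pos⟩)
      have e1 := LinearMap.congr_fun h1 (e ⟨0, hr.pos⟩)
      simp only [hmk, LinearMap.zero_apply, show χ₀ (e ⟨0, hr.pos⟩) = 1 by simp [χ₀], mul_one, one_mul, mul_pow] at e0 e1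
      linear_combination (w ^ q) * e1 - e0
    · exact ⟨mk 1, h1, hsym 1⟩
  have hvec : Module.finrank K (Fin n → F) = d := by
    have e := Module.finrank_mul_finrank F K (Fin n → F)
    rw [hdim, Module.finrank_fintype_fun_eq_card, Fintype.card_fin] at e
    exact Nat.eq_of_mul_eq_mul_left hr.pos (e.trans hn)
  let D : UnitExtField.Data F q n K :=
    { hF := hF, τ := τh, hττ := hττ, hτF := hτF, χ := χ, hχ := hχ, hχτ := hχτ, hr := hdim.symm ▸ hr,
      hr2 := hdim.symm ▸ hr2, hd := by rw [hvec, hdim]; exact hd, hsmall := by rw [hvec, hdim]; exact hsmall,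
      hadj := hτ }
  have hN : ∀ g : GL (Fin n) F, g ∈ Cfsg.Geo.subalgebraNormalizer K ↔
      ∀ k : K, ∃ k' : K, ∀ x, (g : Matrix (Fin n) (Fin n) F) *ᵥ (k • x) =
        k' • ((g : Matrix (Fin n) (Fin n) F) *ᵥ x) := by
    intro g
    constructor
    · intro hg k
      refine ⟨⟨_, (hg k.1).1 k.2⟩, fun x => ?_⟩
      show (g : Matrix _ _ F) *ᵥ (k.1 *ᵥ x) = (_ * k.1 * _) *ᵥ ((g : Matrix _ _ F) *ᵥ x)
      rw [← Matrix.mulVec_mulVec, ← Matrix.mulVec_mulVec, Forms.Max.inv_mulVec_cancel]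
    · intro h
      choose σ hσ using h
      have hconj : ∀ k : K, (g : Matrix (Fin n) (Fin n) F) * k.1 *
          ((g⁻¹ : GL (Fin n) F) : Matrix (Fin n) (Fin n) F) = (σ k).1 := fun k =>
        Matrix.ext_of_mulVec_single fun i => by
          rw [← Matrix.mulVec_mulVec, ← Matrix.mulVec_mulVec]
          exact (hσ k _).trans (congrArg (fun x => (σ k).1 *ᵥ x) (Forms.Max.mulVec_inv_cancel g _))
      haveI : Finite K := Module.finite_of_finite F
      have hinj : Function.Injective σ := fun a b e => Subtype.ext ((Units.mul_right_inj g).1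
        ((Units.mul_left_inj g⁻¹).1 (by rw [hconj, hconj, e])))
      refine fun z => ⟨fun hz => hconj ⟨z, hz⟩ ▸ (σ ⟨z, hz⟩).2, fun hz => ?_⟩
      obtain ⟨k, hk⟩ := Finite.injective_iff_surjective.1 hinj ⟨_, hz⟩
      have e := hconj k
      rw [hk] at e
      exact (Units.mul_right_inj g).1 ((Units.mul_left_inj g⁻¹).1 e) ▸ k.2
  refine Forms.Max.isMaximalIn_of inf_le_right (fun hle => ?_) fun M hM hMK g hgM hg =>
    UnitExtField.sun_le D (fun h hh hh' => hM ⟨(hN h).2 fun k => ⟨k, hh' k⟩, hh⟩) hMK hgM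
      fun h => hg ⟨(hN g).2 h, hMK hgM⟩
  obtain ⟨g, hg, hg'⟩ := UnitExtField.exists_not_semilinear D
  exact hg' ((hN g).1 (hle hg).1)

theorem maximal {F : Type*} [Field F] [Fintype F] (q : ℕ) (hF : Fintype.card F = q ^ 2) (n r d : ℕ)
    (hr : r.Prime) (hr2 : r ≠ 2) (hn : n = r * d) (hd : d = 2 ∨ 4 ≤ d) (hsmall : 4 ≤ d ∨ 3 ≤ q ∨ 5 ≤ r)
    (K : Subalgebra F (Matrix (Fin n) (Fin n) F)) (hK : Cfsg.Geo.IsFieldSubalgebra r K)
    (hadj : Cfsg.Geo.IsAdjointClosedFor (Cfsg.hermForm n F q) K) :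
    Cfsg.Geo.IsMaximalIn (Cfsg.GU n F q ⊓ Cfsg.Geo.specialLinear (Fin n) F)
      (Cfsg.Geo.subalgebraNormalizer K ⊓ (Cfsg.GU n F q ⊓ Cfsg.Geo.specialLinear (Fin n) F)) :=
  maximal_general q hF n r d hr hr2 hn (hd.imp_right Or.inl) (hsmall.imp_left fun h => by omega) K hK hadj

/-- `SU₁₀(q)`, degree five -/
theorem su_ten {F : Type*} [Field F] [Fintype F] (q : ℕ) (hF : Fintype.card F = q ^ 2)
    (K : Subalgebra F (Matrix (Fin 10) (Fin 10) F)) (hK : Cfsg.Geo.IsFieldSubalgebra 5 K)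
    (hadj : Cfsg.Geo.IsAdjointClosedFor (Cfsg.hermForm 10 F q) K) :
    Cfsg.Geo.IsMaximalIn (Cfsg.GU 10 F q ⊓ Cfsg.Geo.specialLinear (Fin 10) F)
      (Cfsg.Geo.subalgebraNormalizer K ⊓ (Cfsg.GU 10 F q ⊓ Cfsg.Geo.specialLinear (Fin 10) F)) :=
  maximal q hF 10 5 2 (by norm_num) (by norm_num) rfl (Or.inl rfl) (Or.inr (Or.inr le_rfl)) K hK hadj

end Cfsg.Agent.Forms.Max.UnitExtNormalizer

namespace Cfsg.Agent.Forms.Max.UnitExtNine

/-- `SU₉(q)`, degree three -/
theorem maximal {F : Type*} [Field F] [Fintype F] (q : ℕ) (hF : Fintype.card F = q ^ 2)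
    (K : Subalgebra F (Matrix (Fin 9) (Fin 9) F)) (hK : Cfsg.Geo.IsFieldSubalgebra 3 K)
    (hadj : Cfsg.Geo.IsAdjointClosedFor (Cfsg.hermForm 9 F q) K) :
    Cfsg.Geo.IsMaximalIn (Cfsg.GU 9 F q ⊓ Cfsg.Geo.specialLinear (Fin 9) F)
      (Cfsg.Geo.subalgebraNormalizer K ⊓ (Cfsg.GU 9 F q ⊓ Cfsg.Geo.specialLinear (Fin 9) F)) :=
  UnitExtNormalizer.maximal_general q hF 9 3 3 (by norm_num) (by norm_num) rfl (Or.inr (Or.inr ⟨rfl, rfl⟩))
    (Or.inl le_rfl) K hK hadj

end Cfsg.Agent.Forms.Max.UnitExtNine
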